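import Mathlib

/-!
Tools: signs of permutations whose cycles all have one length, commutants of regular unipotent
isometries of three-dimensional quadratic spaces, and a determinant.
-/

set_option autoImplicit false
set_option linter.unusedSectionVars false

namespace CfsgLib.SpecOrth

/-- All cycles of length `o`. -/
theorem sign_of_uniform {α : Type*} [Fintype α] [DecidableEq α] {σ : Equiv.Perm α} {o : ℕ}
    (h : ∀ x, σ x ≠ x → ∀ j : ℕ, (σ ^ j) x = x ↔ o ∣ j) :
    ∃ k : ℕ, σ.support.card = o * k ∧ Equiv.Perm.sign σ = (-1) ^ (o * k + k) := by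
  have hall : ∀ n ∈ σ.cycleType, n = o := by
    intro n hn
    rw [Equiv.Perm.cycleType_def, Multiset.mem_map] at hn
    obtain ⟨τ, hτ, rfl⟩ := hn
    rw [Finset.mem_val, Equiv.Perm.mem_cycleFactorsFinset_iff] at hτ
    obtain ⟨x, hx⟩ := hτ.1.nonempty_support
    have hστ : ∀ j : ℕ, (τ ^ j) x = (σ ^ j) x := by
      intro j
      induction j with
      | zero => rfl
      | succ j ih =>
        rw [pow_succ', pow_succ', Equiv.Perm.mul_apply, Equiv.Perm.mul_apply, ← ih,
          hτ.2 _ (Equiv.Perm.pow_apply_mem_support.2 hx)]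
    have hxσ : σ x ≠ x := by rw [← hτ.2 x hx]; exact Equiv.Perm.mem_support.1 hx
    show τ.support.card = o
    rw [← hτ.1.orderOf]
    have key : ∀ j, orderOf τ ∣ j ↔ o ∣ j := fun j => by
      rw [← h x hxσ j, ← hστ j, orderOf_dvd_iff_pow_eq_one,
        hτ.1.pow_eq_one_iff' (Equiv.Perm.mem_support.1 hx)]
    exact Nat.dvd_antisymm ((key o).2 dvd_rfl) ((key _).1 dvd_rfl)
  refine ⟨Multiset.card σ.cycleType, ?_, ?_⟩
  · rw [← Equiv.Perm.sum_cycleType, Multiset.eq_replicate_of_mem hall, Multiset.sum_replicate,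
      Multiset.card_replicate, smul_eq_mul, mul_comm]
  · rw [Equiv.Perm.sign_of_cycleType, Multiset.eq_replicate_of_mem hall, Multiset.sum_replicate,
      Multiset.card_replicate, smul_eq_mul, mul_comm]

/-- A point set without fixed points. -/
theorem dvd_card_of_free {α : Type*} [Fintype α] [DecidableEq α] {σ : Equiv.Perm α} {o : ℕ}
    (hne : o ≠ 1) (h : ∀ x, ∀ j : ℕ, (σ ^ j) x = x ↔ o ∣ j) : o ∣ Fintype.card α := by
  have hfix : ∀ x, σ x ≠ x := fun x hx => hne (Nat.dvd_one.1 ((h x 1).1 (by rwa [pow_one])))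
  obtain ⟨k, hk, -⟩ := sign_of_uniform (fun x _ => h x)
  refine ⟨k, ?_⟩
  rw [← hk, ← Finset.card_univ]
  congr 1
  ext x
  simp [hfix x]

section Three

open QuadraticMap

variable {F : Type*} [Field F] {U : Type*} [AddCommGroup U] [Module F U] [FiniteDimensional F U]

/-- In dimension three a non-trivial unipotent isometry is regular, so whatever commutes with it
and has order prime to the characteristic is a scalar. -/
theorem eq_smul_of_commute_unipotent (Q : QuadraticForm F U) (h2 : (2 : F) ≠ 0)
    (hnd : ∀ w, (∀ w', polar Q w w' = 0) → w = 0) (hd : Module.finrank F U = 3)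
    (p : ℕ) [hp : Fact p.Prime] [CharP F p] {u s : Module.End F U} (hu : ∀ w, Q (u w) = Q w)
    (hup : u ^ p = 1) (hu1 : u ≠ 1) (hus : Commute u s) {M : ℕ} (hM : M.Coprime p)
    (hs : s ^ M = 1) : ∃ c : F, s = c • 1 := by
  have : Nontrivial U := Module.nontrivial_of_finrank_pos (R := F) (by omega)
  have : CharP (Module.End F U) p :=
    charP_of_injective_algebraMap (algebraMap F (Module.End F U)).injective p
  set N : Module.End F U := u - 1 with hN
  have hNp : N ^ p = 0 := by
    rw [hN, sub_pow_char_of_commute p (Commute.one_right _), hup, one_pow, sub_self]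
  have hN0 : N ≠ 0 := sub_ne_zero.2 hu1
  have hN3 : N ^ 3 = 0 := by
    have h := LinearMap.aeval_self_charpoly N
    rw [IsNilpotent.charpoly_eq_X_pow_finrank ⟨p, hNp⟩, hd, map_pow,
      Polynomial.aeval_X] at h
    exact h
  have hskew : ∀ v w, polar Q (N v) w + polar Q v (N w) + polar Q (N v) (N w) = 0 := by
    intro v w
    have h : polar Q (u v) (u w) = polar Q v w := by simp [QuadraticMap.polar, ← map_add, hu]
    rw [show u v = v + N v by simp [hN], show u w = w + N w by simp [hN], polar_add_left,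
      polar_add_right, polar_add_right] at h
    linear_combination h
  have hN2 : N ^ 2 ≠ 0 := by
    intro hsq
    have hNN : ∀ v, N (N v) = 0 := fun v => by
      rw [← Module.End.mul_apply, ← pow_two, hsq]; rfl
    have hiso : ∀ v w, polar Q (N v) (N w) = 0 := fun v w => by
      have h := hskew v (N w)
      rwa [hNN, polar_zero_right, polar_zero_right, add_zero, add_zero] at h
    have hle : LinearMap.range N ≤ LinearMap.ker N := by
      rintro _ ⟨v, rfl⟩
      exact LinearMap.mem_ker.2 (hNN v)
    have hr := LinearMap.finrank_range_add_finrank_ker N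
    have hr' := Submodule.finrank_mono hle
    rw [hd] at hr
    have hrank : Module.finrank F (LinearMap.range N) ≤ 1 := by omega
    obtain ⟨⟨l, hlm⟩, hl⟩ := finrank_le_one_iff.1 hrank
    have hcoef : ∀ v, ∃ a : F, a • l = N v := fun v => by
      obtain ⟨a, ha⟩ := hl ⟨N v, v, rfl⟩
      exact ⟨a, congrArg Subtype.val ha⟩
    choose φ hφ using hcoef
    have hz : ∀ v, φ v * polar Q l v = 0 := fun v => by
      have h := hskew v v
      rw [hiso, add_zero, ← hφ, polar_smul_left, polar_smul_right, polar_comm (f := ⇑Q) v l,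
        smul_eq_mul] at h
      have h' : (2 : F) * (φ v * polar Q l v) = 0 := by linear_combination h
      exact (mul_eq_zero.1 h').resolve_left h2
    obtain ⟨v₁, hv₁⟩ : ∃ v, N v ≠ 0 := by
      by_contra h
      push Not at h
      exact hN0 (LinearMap.ext h)
    have hl0 : l ≠ 0 := fun h => hv₁ (by rw [← hφ, h, smul_zero])
    have hφ1 : φ v₁ ≠ 0 := fun h => hv₁ (by rw [← hφ, h, zero_smul])
    obtain ⟨v₂, hv₂⟩ : ∃ v, polar Q l v ≠ 0 := by
      by_contra h
      push Not at h
      exact hl0 (hnd l h)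
    have hp1 : polar Q l v₁ = 0 := (mul_eq_zero.1 (hz v₁)).resolve_left hφ1
    have hp2 : φ v₂ = 0 := (mul_eq_zero.1 (hz v₂)).resolve_right hv₂
    have hadd : φ (v₁ + v₂) = φ v₁ := by
      apply smul_left_injective F hl0
      simp only [hφ, map_add]
      rw [show N v₂ = 0 by rw [← hφ, hp2, zero_smul], add_zero]
    have h := hz (v₁ + v₂)
    rw [hadd, polar_add_right, hp1, zero_add] at h
    exact mul_ne_zero hφ1 hv₂ h
  obtain ⟨v, hv⟩ : ∃ v, (N ^ 2) v ≠ 0 := by
    by_contra h
    push Not at h
    exact hN2 (LinearMap.ext h)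
  have hv' : N (N v) ≠ 0 := by rwa [← Module.End.mul_apply, ← pow_two]
  have hv3 : ∀ w, N (N (N w)) = 0 := fun w => by
    rw [← Module.End.mul_apply, ← Module.End.mul_apply, ← pow_two, ← pow_succ, hN3]
    rfl
  have hli : LinearIndependent F ![v, N v, N (N v)] := by
    rw [Fintype.linearIndependent_iff]
    intro g hg
    simp only [Fin.sum_univ_three, Matrix.cons_val_zero, Matrix.cons_val_one,
      Matrix.cons_val_two, Matrix.tail_cons, Matrix.head_cons] at hg
    have h0 : g 0 = 0 := by
      have h := congrArg (fun w => N (N w)) hg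
      simp [hv3] at h
      exact h.resolve_right hv'
    have h1 : g 1 = 0 := by
      have h := congrArg N hg
      simp [hv3, h0] at h
      exact h.resolve_right hv'
    have h2' : g 2 = 0 := by
      simp [h0, h1] at hg
      exact hg.resolve_right hv'
    intro i
    fin_cases i
    · exact h0
    · exact h1
    · exact h2'
  have hsp := hli.span_eq_top_of_card_eq_finrank (by rw [Fintype.card_fin, hd])
  obtain ⟨g, hg⟩ : ∃ g : Fin 3 → F, ∑ i, g i • ![v, N v, N (N v)] i = s v :=
    (Submodule.mem_span_range_iff_exists_fun F).1 (by rw [hsp]; trivial)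
  set D : Module.End F U := g 1 • N + g 2 • N ^ 2 with hD
  have hsN : Commute s N := by rw [hN]; exact hus.symm.sub_right (Commute.one_right _)
  have hsD : s = g 0 • 1 + D := by
    refine LinearMap.ext_on_range hsp fun i => ?_
    have hcs : ∀ w, s (N w) = N (s w) := fun w => LinearMap.congr_fun hsN.eq w
    have h0 : s v = (g 0 • (1 : Module.End F U) + D) v := by
      rw [← hg, hD]
      simp [Fin.sum_univ_three, pow_two, add_assoc]
    fin_cases i
    · exact h0
    · show s (N v) = _
      rw [hcs, h0, hD]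
      simp [pow_two]
    · show s (N (N v)) = _
      rw [hcs, hcs, h0, hD]
      simp [pow_two]
  have hD2 : D ^ (p ^ 2) = 0 := by
    have hc : Commute N (g 1 • 1 + g 2 • N) :=
      ((Commute.one_right N).smul_right _).add_right ((Commute.refl N).smul_right _)
    have hDN : D = N * (g 1 • 1 + g 2 • N) := by
      rw [hD, mul_add, mul_smul_comm, mul_smul_comm, mul_one, pow_two]
    have h3 : 3 ≤ p ^ 2 := by have := hp.out.two_le; nlinarith
    rw [hDN, hc.mul_pow, show p ^ 2 = 3 + (p ^ 2 - 3) by omega, pow_add, hN3]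
    simp
  refine ⟨g 0, ?_⟩
  have hsp2 : s ^ (p ^ 2) = g 0 ^ (p ^ 2) • 1 := by
    rw [hsD, add_pow_char_pow_of_commute _ _ ((Commute.one_left D).smul_left _), hD2, add_zero,
      _root_.smul_pow, one_pow]
  obtain ⟨j, hj⟩ : ∃ j, s = (s ^ (p ^ 2)) ^ j := by
    have hso : orderOf s ∣ M := orderOf_dvd_of_pow_eq_one hs
    have hcop : (p ^ 2).Coprime (orderOf s) :=
      (Nat.Coprime.coprime_dvd_right hso hM.symm).pow_left 2
    obtain ⟨j, hj⟩ := exists_pow_eq_self_of_coprime hcop
    exact ⟨j, hj.symm⟩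
  rw [hsp2, _root_.smul_pow, one_pow] at hj
  have hDs : D = ((g 0 ^ (p ^ 2)) ^ j - g 0) • 1 := by
    rw [sub_smul, ← hj, hsD]; abel
  rw [hDs, _root_.smul_pow, one_pow, smul_eq_zero, or_iff_left (one_ne_zero)] at hD2
  rw [hj, sub_eq_zero.1 (eq_zero_of_pow_eq_zero hD2)]

/-- The map which is the identity on one factor and a scalar on the other. -/
theorem det_add_smul_compl {V : Type*} [AddCommGroup V] [Module F V] [FiniteDimensional F V]
    {P : Module.End F V} (hP : P * P = P) (c : F) :
    LinearMap.det (P + c • (1 - P)) = c ^ Module.finrank F (LinearMap.ker P) := by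
  have hPP : ∀ v, P (P v) = P v := fun v => LinearMap.congr_fun hP v
  have hc : IsCompl (LinearMap.range P) (LinearMap.ker P) := by
    refine ⟨Submodule.disjoint_def.2 ?_, codisjoint_iff.2 (eq_top_iff.2 fun v _ => ?_)⟩
    · rintro _ ⟨w, rfl⟩ hw
      rwa [LinearMap.mem_ker, hPP] at hw
    · exact Submodule.mem_sup.2 ⟨P v, ⟨v, rfl⟩, v - P v, by simp [hPP], by abel⟩
  let e := Submodule.prodEquivOfIsCompl _ _ hc
  have heq : P + c • (1 - P) = (e : _ →ₗ[F] V) ∘ₗ
      ((LinearMap.id : LinearMap.range P →ₗ[F] LinearMap.range P).prodMap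
        (c • LinearMap.id : LinearMap.ker P →ₗ[F] LinearMap.ker P)) ∘ₗ
      (e.symm : V →ₗ[F] _) := by
    refine LinearMap.ext fun v => ?_
    obtain ⟨⟨⟨w, hw⟩, ⟨k, hk⟩⟩, rfl⟩ := e.surjective v
    obtain ⟨w', rfl⟩ := hw
    simp only [LinearMap.comp_apply, LinearEquiv.coe_coe, LinearEquiv.symm_apply_apply]
    simp [e, Submodule.coe_prodEquivOfIsCompl', hPP, LinearMap.mem_ker.1 hk]
  rw [heq, LinearMap.det_conj, LinearMap.det_prodMap, LinearMap.det_id, one_mul, LinearMap.det_smul,
    LinearMap.det_id, mul_one]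

end Three

end CfsgLib.SpecOrth
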