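import Mathlib
import Cfsg.Agent.Lib.SpecSp.PrimeGraph
import Cfsg.Agent.Lib.Orth.Basic
import Cfsg.Agent.Helper57Spinor

/-!
Non-adjacency in the prime graphs of `Sp_2n` and `O_(2n+1)`: both are read off from an element of a
symplectic group whose minimal polynomial has degree at most `2 n + 1`.
-/

set_option autoImplicit false
set_option linter.unusedSectionVars false

namespace CfsgLib.SpecOrth

open Matrix Polynomial CfsgLib.Orth CfsgLib.SpecSp.PrimeGraph Cfsg.Agent.Spinor57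

variable {F : Type*} [Field F] [Fintype F] {n N : ℕ}

local notation "q" => Fintype.card F
local notation "ord[" r "]" => orderOf ((Fintype.card F : ℕ) : ZMod r)
local notation "Sp[" k "]" => Matrix.symplecticGroup (Fin k) F

/-- `x⁻¹` is the adjoint of `x`. -/
theorem polar_aeval {ι : Type} [Fintype ι] [DecidableEq ι] {Q : QuadraticForm F (ι → F)} (x : O Q)
    (P : F[X]) (u v : ι → F) :
    QuadraticMap.polar Q ((aeval (app x) P) u) v =
      QuadraticMap.polar Q u ((aeval (app x⁻¹) P) v) := by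
  induction P using Polynomial.induction_on' with
  | add P R hP hR =>
    simp only [map_add, LinearMap.add_apply, QuadraticMap.polar_add_left,
      QuadraticMap.polar_add_right, hP, hR]
  | monomial j a =>
    simp only [aeval_monomial, Module.End.mul_apply, Module.algebraMap_end_apply,
      QuadraticMap.polar_smul_left, QuadraticMap.polar_smul_right]
    congr 1
    induction j generalizing v with
    | zero => simp
    | succ j ih =>
      rw [pow_succ', pow_succ, Module.End.mul_apply, Module.End.mul_apply, ← ih]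
      conv_lhs => rw [← app_app_inv x v, polar_app]

theorem aeval_inv_eq_zero {ι : Type} [Fintype ι] [DecidableEq ι] {Q : QuadraticForm F (ι → F)}
    (hQ : Q.polarBilin.Nondegenerate) {x : O Q} {P : F[X]} (h : aeval (app x) P = 0) :
    aeval (app x⁻¹) P = 0 :=
  LinearMap.ext fun v => hQ.2 _ fun u => by
    rw [QuadraticMap.polarBilin_apply_apply, ← polar_aeval, h, LinearMap.zero_apply,
      QuadraticMap.polar_zero_left]

theorem aeval_app_eq_zero_iff {ι : Type} [Fintype ι] [DecidableEq ι] {Q : QuadraticForm F (ι → F)}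
    (x : O Q) (P : F[X]) :
    aeval (app x) P = 0 ↔ aeval ((x : GL ι F) : Matrix ι ι F) P = 0 := by
  have h : app x = Matrix.toLinAlgEquiv' ((x : GL ι F) : Matrix ι ι F) := rfl
  rw [h, aeval_algHom_apply, map_eq_zero_iff _ Matrix.toLinAlgEquiv'.injective]

theorem aeval_fromBlocks {κ μ : Type*} [Fintype κ] [DecidableEq κ] [Fintype μ] [DecidableEq μ]
    (A : Matrix κ κ F) (B : Matrix μ μ F) (P : F[X]) :
    aeval (fromBlocks A 0 0 B) P = fromBlocks (aeval A P) 0 0 (aeval B P) := by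
  induction P using Polynomial.induction_on' with
  | add P R hP hR => rw [map_add, map_add, map_add, hP, hR, fromBlocks_add, add_zero, add_zero]
  | monomial j a =>
    simp only [aeval_monomial, Algebra.algebraMap_eq_smul_one, smul_mul_assoc, one_mul]
    rw [show (fromBlocks A 0 0 B) ^ j = fromBlocks (A ^ j) 0 0 (B ^ j) by
      induction j with
      | zero => simp
      | succ j ih => simp [pow_succ, ih, fromBlocks_multiply], fromBlocks_smul, smul_zero, smul_zero]

theorem aeval_transpose {κ : Type*} [Fintype κ] [DecidableEq κ] (A : Matrix κ κ F) (P : F[X]) :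
    aeval Aᵀ P = (aeval A P)ᵀ := by
  induction P using Polynomial.induction_on' with
  | add P R hP hR => rw [map_add, map_add, hP, hR, transpose_add]
  | monomial j a =>
    simp only [aeval_monomial, Algebra.algebraMap_eq_smul_one, smul_mul_assoc, one_mul,
      transpose_smul, transpose_pow]

/-- An isometry as a symplectic element with the same order and minimal polynomial. -/
theorem exists_sp_of_odd (h2 : (2 : F) ≠ 0) (x : O (qOdd n F)) :
    ∃ M : Sp[2 * n + 1], orderOf M = orderOf x ∧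
      minpoly F M.1 = minpoly F (app x) ∧ (minpoly F M.1).natDegree ≤ 2 * n + 1 := by
  let σ : Unit ⊕ (Fin n ⊕ Fin n) ≃ Fin (2 * n + 1) := Fintype.equivFinOfCardEq (by simp; omega)
  let re : Matrix (Unit ⊕ (Fin n ⊕ Fin n)) (Unit ⊕ (Fin n ⊕ Fin n)) F ≃ₐ[F]
      Matrix (Fin (2 * n + 1)) (Fin (2 * n + 1)) F := Matrix.reindexAlgEquiv F F σ
  let φ : O (qOdd n F) →* GL (Fin (2 * n + 1)) F :=
    (Units.map (re.toRingEquiv.toRingHom : _ →* _)).comp (O (qOdd n F)).subtype
  have hφ : Function.Injective φ := fun a b h =>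
    Subtype.ext (Units.ext (re.injective (congrArg Units.val h)))
  let Φ := (CfsgLib.SpecSp.glEmb (F := F) (2 * n + 1)).comp φ
  have hz : ∀ P : F[X], aeval (app x) P = 0 ↔ aeval (Φ x).1 P = 0 := by
    intro P
    have e : (Φ x).1 = fromBlocks (φ x : Matrix (Fin (2 * n + 1)) (Fin (2 * n + 1)) F) 0 0
        ((φ x⁻¹ : GL (Fin (2 * n + 1)) F) : Matrix (Fin (2 * n + 1)) (Fin (2 * n + 1)) F)ᵀ := by
      rw [map_inv]; rfl
    have hi : ∀ y : O (qOdd n F),
        aeval (φ y : Matrix (Fin (2 * n + 1)) (Fin (2 * n + 1)) F) P = 0 ↔ aeval (app y) P = 0 := by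
      intro y
      rw [aeval_app_eq_zero_iff]
      change aeval (re (Units.val y.1)) P = 0 ↔ _
      rw [aeval_algHom_apply, map_eq_zero_iff _ re.injective]
    rw [e, aeval_fromBlocks]
    constructor
    · intro h
      have h' := (hi x⁻¹).2 (aeval_inv_eq_zero (qOdd_nondegenerate h2) h)
      rw [aeval_transpose, h', (hi x).2 h, transpose_zero, fromBlocks_zero]
    · intro h
      rw [← hi]
      exact congrArg Matrix.toBlocks₁₁ h
  have hμ : minpoly F (Φ x).1 = minpoly F (app x) := by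
    refine Polynomial.eq_of_monic_of_associated (minpoly.monic (Matrix.isIntegral _))
      (minpoly.monic (LinearMap.isIntegral _)) (associated_of_dvd_dvd ?_ ?_)
    · exact minpoly.dvd F _ ((hz _).1 (minpoly.aeval F _))
    · exact minpoly.dvd F _ ((hz _).2 (minpoly.aeval F _))
  refine ⟨Φ x, orderOf_injective Φ
    ((CfsgLib.SpecSp.glEmb_injective (2 * n + 1)).comp hφ) x, hμ, ?_⟩
  rw [hμ]
  have h := natDegree_le_of_dvd (LinearMap.minpoly_dvd_charpoly (app x))
    (LinearMap.charpoly_monic _).ne_zero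
  rw [LinearMap.charpoly_natDegree, Module.finrank_fintype_fun_eq_card] at h
  simp at h
  omega

variable {M : Matrix.symplecticGroup (Fin N) F}

theorem not_dvd_sub_one {m : ℕ} (hm : ¬ orderOf M ∣ m) : ¬ minpoly F M.1 ∣ Polynomial.X ^ m - 1 :=
  fun h => hm (orderOf_dvd_of_minpoly_dvd h)

/-- An element of order `r` forces `η ≤ n`. -/
theorem eta_le_of_order (hN : 1 ≤ N) (hdeg : (minpoly F M.1).natDegree ≤ 2 * n + 1) {r : ℕ}
    [hr : Fact r.Prime] (hr2 : r ≠ 2) (hr0 : (r : F) ≠ 0) (hM : orderOf M = r) {k a : ℕ}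
    (hk : k = ord[r]) (ha : IsEta k a) : a ≤ n ∧ k ≠ 0 := by
  have : Nonempty (Fin N) := ⟨⟨0, hN⟩⟩
  have hμ : minpoly F M.1 ≠ 0 := minpoly.ne_zero (Matrix.isIntegral M.1)
  have hsq : Squarefree (Polynomial.X ^ r - Polynomial.C (1 : F)) :=
    (Polynomial.separable_X_pow_sub_C (1 : F) hr0 one_ne_zero).squarefree
  rw [map_one] at hsq
  have hd := minpoly_dvd_X_pow_sub_one hM.dvd
  obtain ⟨g, hg, hgμ, hg1⟩ := CfsgLib.SpecLin.PrimeGraph.exists_irreducible_not_dvd hμ
    (hsq.squarefree_of_dvd hd) (not_dvd_sub_one (m := 1) (by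
      rw [hM, Nat.dvd_one]; exact hr.out.one_lt.ne'))
  obtain ⟨P, hP, hdP, -, -⟩ := eta_bound hr2 hk ha (mul_one r).symm hr.out.one_le hN M hg hgμ
    (hgμ.trans hd) hg1
  have hPle := Polynomial.natDegree_le_of_dvd hP hμ
  have hk0 := (CfsgLib.SpecLin.PrimeGraph.order_dvd_natDegree hg (mul_one r).symm (hgμ.trans hd)
    hg1 hr.out.ne_zero).2
  exact ⟨by omega, hk ▸ hk0⟩

/-- Two odd primes. -/
theorem not_adjacent_odd (hn : 1 ≤ N) (hle : (minpoly F M.1).natDegree ≤ 2 * n + 1) {r s : ℕ}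
    [Fact r.Prime] [Fact s.Prime] (hr2 : r ≠ 2) (hs2 : s ≠ 2) (hr0 : (r : F) ≠ 0)
    (hs0 : (s : F) ≠ 0) (hM : orderOf M = r * s) {k l ηk ηl : ℕ} (hk : k = ord[r])
    (hl : l = ord[s]) (hηk : IsEta k ηk) (hηl : IsEta l ηl) (hkl : ηk ≤ ηl)
    (hbig : n < ηk + ηl) : ∃ t : ℕ, Odd t ∧ l = k * t := by
  by_contra hnt
  have hr : r.Prime := Fact.out
  have hs : s.Prime := Fact.out
  have hrs0 : ((r * s : ℕ) : F) ≠ 0 := by rw [Nat.cast_mul]; exact mul_ne_zero hr0 hs0
  have hrs1 : 1 ≤ r * s := Nat.mul_pos hr.pos hs.pos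
  have : Nonempty (Fin N) := ⟨⟨0, hn⟩⟩
  have hμ : minpoly F M.1 ≠ 0 := minpoly.ne_zero (Matrix.isIntegral M.1)
  have hf : Squarefree (Polynomial.X ^ (r * s) - Polynomial.C (1 : F)) :=
    (Polynomial.separable_X_pow_sub_C (1 : F) hrs0 one_ne_zero).squarefree
  rw [map_one] at hf
  have hd := minpoly_dvd_X_pow_sub_one hM.dvd
  have hsq : Squarefree (minpoly F M.1) := hf.squarefree_of_dvd hd
  have hnr : ¬ minpoly F M.1 ∣ Polynomial.X ^ r - 1 := not_dvd_sub_one fun h' => by
    rw [hM] at h'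
    have := Nat.le_of_dvd hr.pos h'
    have := Nat.mul_le_mul_left r hs.two_le
    have := hr.pos
    omega
  have hns : ¬ minpoly F M.1 ∣ Polynomial.X ^ s - 1 := not_dvd_sub_one fun h' => by
    rw [hM] at h'
    have := Nat.le_of_dvd hs.pos h'
    have := Nat.mul_le_mul_right s hr.two_le
    have := hs.pos
    omega
  obtain ⟨g₁, hg₁, hg₁μ, hg₁s⟩ :=
    CfsgLib.SpecLin.PrimeGraph.exists_irreducible_not_dvd hμ hsq hns
  obtain ⟨g₂, hg₂, hg₂μ, hg₂r⟩ :=
    CfsgLib.SpecLin.PrimeGraph.exists_irreducible_not_dvd hμ hsq hnr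
  by_cases hcommon : ∃ g : Polynomial F, Irreducible g ∧ g ∣ minpoly F M.1 ∧
      ¬ g ∣ Polynomial.X ^ r - 1 ∧ ¬ g ∣ Polynomial.X ^ s - 1
  · obtain ⟨g, hg, hgμ, hgr, hgs⟩ := hcommon
    have hgd := hgμ.trans hd
    obtain ⟨hkd, -⟩ := CfsgLib.SpecLin.PrimeGraph.order_dvd_natDegree hg rfl hgd hgs (by omega)
    obtain ⟨hld, -⟩ :=
      CfsgLib.SpecLin.PrimeGraph.order_dvd_natDegree hg (mul_comm r s) hgd hgr (by omega)
    rw [← hk] at hkd
    rw [← hl] at hld
    have hd1 := hg.natDegree_pos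
    by_cases hself : g ∣ g.reverse
    · obtain ⟨j, hj, hdj, hrj⟩ := self_case hr hr2 rfl hrs1 hg hgd hgs hself
      obtain ⟨j', -, hdj', hsj⟩ :=
        self_case hs hs2 (mul_comm r s) hrs1 hg hgd hgr hself
      obtain rfl : j = j' := by omega
      obtain ⟨hk1, hk2⟩ := of_dvd_pow_add_one hk hr2 hrj
      obtain ⟨hl1, hl2⟩ := of_dvd_pow_add_one hl hs2 hsj
      have hke := even_of_dvd_two_mul hk1 hk2
      have hle' := even_of_dvd_two_mul hl1 hl2
      obtain ⟨-, hak⟩ := hηk.resolve_left fun h => (Nat.not_even_iff_odd.2 h.1) hke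
      obtain ⟨-, hal⟩ := hηl.resolve_left fun h => (Nat.not_even_iff_odd.2 h.1) hle'
      subst hak
      subst hal
      obtain ⟨u, hu⟩ := (Nat.mul_dvd_mul_iff_left two_pos).1 hk1
      obtain ⟨v, hv⟩ := (Nat.mul_dvd_mul_iff_left two_pos).1 hl1
      have hdeg := (Polynomial.natDegree_le_of_dvd hgμ hμ).trans hle
      have hv1 : v = 1 := by
        rcases v with _ | _ | v
        · omega
        · rfl
        · exfalso
          have : ηl * 2 ≤ j := hv ▸ Nat.mul_le_mul_left ηl (by omega)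
          omega
      rw [hv1, mul_one] at hv
      refine hnt ⟨u, ?_, ?_⟩
      · rw [← Nat.not_even_iff_odd]
        rintro ⟨w, hw⟩
        exact hk2 ⟨w, by rw [hu, hw]; ring⟩
      · rw [mul_assoc, ← hu, hv]
    · obtain ⟨hpair, hdeg⟩ := pair_dvd hn M hg hgμ hself
      have h2d := (Polynomial.natDegree_le_of_dvd hpair hμ).trans hle
      obtain ⟨v, hv⟩ := hld
      rcases hηl with ⟨hlo, rfl⟩ | ⟨hle', hb⟩
      · by_cases hv1 : v = 1
        · rw [hv1, mul_one] at hv
          rw [hv] at hkd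
          obtain ⟨u, hu⟩ := hkd
          exact hnt ⟨u, (Nat.odd_mul.1 (hu ▸ hlo)).2, hu⟩
        · have hv2 : 2 ≤ v := by
            rcases v with _ | _ | v
            · omega
            · exact absurd rfl hv1
            · omega
          have : ηl * 2 ≤ g.natDegree := hv ▸ Nat.mul_le_mul_left ηl hv2
          omega
      · have := Nat.le_of_dvd hd1 (Dvd.intro v hv.symm)
        omega
  · push Not at hcommon
    have hg₁r : g₁ ∣ Polynomial.X ^ r - 1 := by
      by_contra h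
      exact hg₁s (hcommon g₁ hg₁ hg₁μ h)
    have hg₂s : g₂ ∣ Polynomial.X ^ s - 1 := hcommon g₂ hg₂ hg₂μ hg₂r
    obtain ⟨P₁, hP₁, hd₁, -, hco⟩ := eta_bound hr2 hk hηk rfl hrs1 hn M hg₁ hg₁μ
      (hg₁μ.trans hd) hg₁s
    obtain ⟨P₂, hP₂, hd₂, hP₂f, -⟩ := eta_bound hs2 hl hηl (mul_comm r s)
      hrs1 hn M hg₂ hg₂μ (hg₂μ.trans hd) hg₂r
    have hg₁0 := coeff_zero_of_dvd_X_pow_sub_one hr.one_le hg₁r
    have hns₁ : ¬ g₁.reverse ∣ Polynomial.X ^ s - 1 := fun h => hg₁s (by
      have := reverse_dvd_X_pow_sub_one h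
      rwa [CfsgLib.SpecSp.reverse_reverse_eq hg₁0] at this)
    have hcop12 : IsCoprime P₁ P₂ := (hco _ hg₁s hns₁).of_isCoprime_of_dvd_right
      (hP₂f _ hg₂s (reverse_dvd_X_pow_sub_one hg₂s))
    have h12 := Polynomial.natDegree_le_of_dvd (hcop12.mul_dvd hP₁ hP₂) hμ
    rw [Polynomial.natDegree_mul (ne_zero_of_dvd_ne_zero hμ hP₁) (ne_zero_of_dvd_ne_zero hμ hP₂)] at h12
    omega

/-- An odd prime and the characteristic. -/
theorem not_adjacent_char (p : ℕ) [hp : Fact p.Prime] [CharP F p] (hn : 1 ≤ N) (hn' : 1 ≤ n)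
    (hle : (minpoly F M.1).natDegree ≤ 2 * n + 1) {r : ℕ} [hr : Fact r.Prime] (hr2 : r ≠ 2)
    (hr0 : (r : F) ≠ 0) (hM : orderOf M = r * p) {k a : ℕ} (hk : k = ord[r]) (ha : IsEta k a) :
    a < n := by
  have : Nonempty (Fin N) := ⟨⟨0, hn⟩⟩
  have hμ : minpoly F M.1 ≠ 0 := minpoly.ne_zero (Matrix.isIntegral M.1)
  have hsq : Squarefree (Polynomial.X ^ r - Polynomial.C (1 : F)) :=
    (Polynomial.separable_X_pow_sub_C (1 : F) hr0 one_ne_zero).squarefree
  rw [map_one] at hsq
  have hd : minpoly F M.1 ∣ (Polynomial.X ^ r - 1) ^ p := by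
    rw [sub_pow_char, ← pow_mul, one_pow]
    exact minpoly_dvd_X_pow_sub_one hM.dvd
  have hp1 := hp.out.two_le
  have hr1 := hr.out.two_le
  have hnr : ¬ minpoly F M.1 ∣ Polynomial.X ^ r - 1 := not_dvd_sub_one fun h => by
    rw [hM] at h
    have := Nat.le_of_dvd hr.out.pos h
    nlinarith
  have hnL : ¬ minpoly F M.1 ∣ (Polynomial.X - 1) ^ p := fun h => by
    rw [sub_pow_char, one_pow] at h
    have h' := hM ▸ orderOf_dvd_of_minpoly_dvd h
    have := Nat.le_of_dvd hp.out.pos h'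
    nlinarith
  have hLf : (Polynomial.X - 1 : Polynomial F) ∣ Polynomial.X ^ r - 1 := sub_one_dvd_pow_sub_one _ _
  obtain ⟨g, hg, hgμ, hgf, hgL⟩ := CfsgLib.SpecLin.PrimeGraph.exists_other hsq hμ hd hLf hnL
  obtain ⟨h, hh, hh2⟩ := CfsgLib.SpecLin.PrimeGraph.exists_sq_dvd hd hnr
  have hhμ : h ∣ minpoly F M.1 := (dvd_mul_right h h).trans hh2
  have hhf : h ∣ Polynomial.X ^ r - 1 := hh.prime.dvd_of_dvd_pow (hhμ.trans hd)
  have hL1 : ∀ f : F[X], f ∣ Polynomial.X - 1 → f ∣ Polynomial.X ^ 1 - 1 := fun f hf => by rwa [pow_one]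
  by_cases hhL : h ∣ Polynomial.X - 1
  · -- a repeated factor `X - 1`
    obtain ⟨P, hPμ, hPdeg, -, hco⟩ := eta_bound hr2 hk ha (mul_one r).symm hr.out.one_le hn M hg hgμ
      hgf (by rwa [pow_one])
    have hg0 := coeff_zero_of_dvd_X_pow_sub_one hr.out.one_le hgf
    have hc := hco (Polynomial.X - 1) hgL fun hrev => hgL (by
      have := reverse_dvd_X_pow_sub_one (hL1 _ hrev)
      rw [CfsgLib.SpecSp.reverse_reverse_eq hg0, pow_one] at this
      exact this)
    have hc' : IsCoprime P h := hc.of_isCoprime_of_dvd_right hhL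
    have h12 := Polynomial.natDegree_le_of_dvd ((hc'.mul_right hc').mul_dvd hPμ hh2) hμ
    rw [natDegree_mul (ne_zero_of_dvd_ne_zero hμ hPμ) (ne_zero_of_dvd_ne_zero hμ hh2),
      natDegree_mul hh.ne_zero hh.ne_zero] at h12
    have := hh.natDegree_pos
    omega
  · obtain ⟨P, hPμ, hPdeg, hPf, -⟩ := eta_bound hr2 hk ha (mul_one r).symm hr.out.one_le hn M hh hhμ
      hhf (by rwa [pow_one])
    by_cases hself : h ∣ h.reverse
    · have h0 := coeff_zero_of_dvd_X_pow_sub_one hr.out.one_le hhf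
      have hirr := CfsgLib.SpecSp.irreducible_reverse hh h0
      have h' := Polynomial.natDegree_le_of_dvd
        (hPf h dvd_rfl (hh.associated_of_dvd hirr hself).symm.dvd) hh.ne_zero
      have h12 := Polynomial.natDegree_le_of_dvd hh2 hμ
      rw [natDegree_mul hh.ne_zero hh.ne_zero] at h12
      omega
    · obtain ⟨hpair, hdeg⟩ := pair_dvd hn M hh hhμ hself
      have h0 := coeff_zero_of_dvd_X_pow_sub_one hr.out.one_le hhf
      have hirr := CfsgLib.SpecSp.irreducible_reverse hh h0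
      have h' := Polynomial.natDegree_le_of_dvd
        (hPf (h * h.reverse) (dvd_mul_right _ _) (dvd_mul_left _ _))
        (mul_ne_zero hh.ne_zero hirr.ne_zero)
      have hr2' : h.reverse * h.reverse ∣ minpoly F M.1 := by
        refine dvd_trans ?_ (reverse_minpoly_dvd hn M)
        obtain ⟨c, hc⟩ := hh2
        rw [← reverse_mul_of_domain, hc, reverse_mul_of_domain (h * h) c]
        exact dvd_mul_right _ _
      have hcc : IsCoprime (h * h) (h.reverse * h.reverse) := by
        have := hh.coprime_iff_not_dvd.2 hself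
        exact (this.mul_left this).mul_right (this.mul_left this)
      have h12 := Polynomial.natDegree_le_of_dvd (hcc.mul_dvd hh2 hr2') hμ
      rw [natDegree_mul (mul_ne_zero hh.ne_zero hh.ne_zero) (mul_ne_zero hirr.ne_zero hirr.ne_zero),
        natDegree_mul hh.ne_zero hh.ne_zero, natDegree_mul hirr.ne_zero hirr.ne_zero,
        CfsgLib.SpecSp.natDegree_reverse_eq h0] at h12
      rw [hdeg] at h'
      omega

/-- The order of the torus in dimension `2 n` containing elements of order `r`. -/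
def topTorus (F : Type*) [Fintype F] (n k : ℕ) : ℕ :=
  if Odd k then Fintype.card F ^ n - 1 else Fintype.card F ^ n + 1

/-- A factor whose root has order a multiple of `s` with `η(ord q) = n`, dividing `4 s`,
when the top torus has order twice an odd number. -/
theorem top_factor (hn : 1 ≤ N) (hn' : 1 ≤ n) (hle : (minpoly F M.1).natDegree ≤ 2 * n + 1)
    {s : ℕ} [hs : Fact s.Prime] (hs2 : s ≠ 2) {k : ℕ} (hk : k = ord[s]) (ha : IsEta k n)
    (hodd : ¬ 2 ∣ topTorus F n k / 2) (hodd' : 2 ∣ topTorus F n k) {g : F[X]} (hg : Irreducible g)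
    (hgμ : g ∣ minpoly F M.1) (hg4s : g ∣ Polynomial.X ^ (4 * s) - 1)
    (hg4 : ¬ g ∣ Polynomial.X ^ 4 - 1) :
    ∃ ν : F, ν * ν = 1 ∧
      ((g ∣ g.reverse ∧ g.natDegree = 2 * n ∧ g ∣ Polynomial.X ^ (q ^ n + 1) - 1 ∧
          g ∣ Polynomial.X ^ s - Polynomial.C ν) ∨
        (¬ g ∣ g.reverse ∧ g.natDegree = n ∧ g * g.reverse ∣ minpoly F M.1 ∧
          g * g.reverse ∣ Polynomial.X ^ s - Polynomial.C ν)) := by
  have hab : 4 * s = s * 4 := mul_comm _ _
  have hs1 := hs.out.two_le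
  have hμ : minpoly F M.1 ≠ 0 := minpoly.ne_zero (Matrix.isIntegral M.1)
  have hg0 := coeff_zero_of_dvd_X_pow_sub_one (show 1 ≤ 4 * s by omega) hg4s
  obtain ⟨hkd, hk0⟩ :=
    CfsgLib.SpecLin.PrimeGraph.order_dvd_natDegree hg hab hg4s hg4 (by omega)
  rw [← hk] at hkd hk0
  have hdle := Nat.le_of_dvd hg.natDegree_pos hkd
  have hgle := (Polynomial.natDegree_le_of_dvd hgμ hμ).trans hle
  have : Fact (Irreducible g) := ⟨hg⟩
  set ρ := AdjoinRoot.root g with hρ
  have hdvd : ∀ m, g ∣ Polynomial.X ^ m - 1 ↔ ρ ^ m = 1 := fun m => by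
    rw [← AdjoinRoot.mk_eq_zero, map_sub, map_pow, AdjoinRoot.mk_X, map_one, sub_eq_zero]
  -- the order of a root divides `2 s`
  have key : ρ ^ topTorus F n k = 1 → ρ ^ s * ρ ^ s = 1 := by
    intro hT
    rw [← pow_add, ← orderOf_dvd_iff_pow_eq_one]
    have h1 : orderOf ρ ∣ Nat.gcd (4 * s) (topTorus F n k) :=
      Nat.dvd_gcd (orderOf_dvd_of_pow_eq_one ((hdvd _).1 hg4s)) (orderOf_dvd_of_pow_eq_one hT)
    refine h1.trans ?_
    obtain ⟨m, hm⟩ := hodd'
    rw [hm, Nat.mul_div_cancel_left _ two_pos] at hodd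
    rw [hm, show 4 * s = 2 * (2 * s) by ring, Nat.gcd_mul_left, ← two_mul]
    refine Nat.mul_dvd_mul_left 2 ?_
    have hm2 : Nat.Coprime (Nat.gcd (2 * s) m) 2 :=
      Nat.Coprime.coprime_dvd_left (Nat.gcd_dvd_right _ _)
        (Nat.prime_two.coprime_iff_not_dvd.2 hodd).symm
    exact hm2.dvd_mul_left.1 (Nat.gcd_dvd_left _ _)
  by_cases hself : g ∣ g.reverse
  · rcases CfsgLib.SpecSp.self_reciprocal' hg hg0 hself with h | ⟨j, hj, hdj, hpow⟩
    · exfalso
      apply hg4
      rw [hdvd, hρ, show 4 = 2 * 2 from rfl, pow_mul, h, one_pow]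
    obtain ⟨j', -, hdj', hsj⟩ := self_case hs.out hs2 hab (by omega) hg hg4s hg4 hself
    obtain rfl : j = j' := by omega
    obtain ⟨h1, h2⟩ := of_dvd_pow_add_one hk hs2 hsj
    have hke := even_of_dvd_two_mul h1 h2
    obtain ⟨-, hkn⟩ := ha.resolve_left fun h => (Nat.not_even_iff_odd.2 h.1) hke
    obtain rfl : j = n := by omega
    have hT : topTorus F j k = q ^ j + 1 := if_neg (Nat.not_odd_iff_even.2 hke)
    obtain ⟨ν, hν, hdv⟩ := CfsgLib.SpecSp.exists_sign_dvd (key (hT ▸ hpow))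
    exact ⟨ν, hν, Or.inl ⟨hself, hdj, (hdvd _).2 hpow, hdv⟩⟩
  · obtain ⟨hpair, hdeg⟩ := pair_dvd hn M hg hgμ hself
    have h2d := (Polynomial.natDegree_le_of_dvd hpair hμ).trans hle
    rcases ha with ⟨hko, hkn⟩ | ⟨hke, hkn⟩
    · have hdn : g.natDegree = n := by
        obtain ⟨v, hv⟩ := hkd
        rcases v with _ | _ | v
        · omega
        · omega
        · have : k * 2 ≤ g.natDegree := hv ▸ Nat.mul_le_mul_left k (by omega)
          omega
      have hX : ¬ g ∣ Polynomial.X := fun hX => by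
        have h' := (hg.associated_of_dvd Polynomial.irreducible_X hX).symm.dvd
        exact hg0 (X_dvd_iff.1 h')
      have hpow := CfsgLib.SpecLin.PSLOrders.root_pow_card_sub_one hX
      rw [CfsgLib.SpecLin.PSLOrders.cyc_mul _ _ Fintype.card_pos, hdn] at hpow
      have hT : topTorus F n k = q ^ n - 1 := if_pos hko
      obtain ⟨ν, hν, hdv⟩ := CfsgLib.SpecSp.exists_sign_dvd (key (hT ▸ hpow))
      refine ⟨ν, hν, Or.inr ⟨hself, hdn, hpair, ?_⟩⟩
      refine (hg.coprime_iff_not_dvd.2 hself).mul_dvd hdv ?_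
      obtain ⟨c, hc⟩ := hdv
      have hXk : (Polynomial.X ^ s - C ν).reverse = C (-ν) * (Polynomial.X ^ s - C ν) := by
        rw [reverse, natDegree_X_pow_sub_C, reflect_sub, reflect_C,
          show (Polynomial.X : F[X]) ^ s = C 1 * Polynomial.X ^ s by rw [map_one, one_mul],
          reflect_C_mul_X_pow, revAt_le le_rfl, Nat.sub_self, pow_zero, map_one, one_mul, map_neg,
          mul_sub, one_mul]
        rw [show (-C ν * C ν : F[X]) = -1 by rw [neg_mul, ← C_mul, hν, map_one]]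
        ring
      have h5 : g.reverse ∣ C (-ν) * (Polynomial.X ^ s - C ν) := by
        rw [← hXk, hc, reverse_mul_of_domain]; exact dvd_mul_right _ _
      have hνu : IsUnit (C (-ν)) := isUnit_C.2 (isUnit_iff_ne_zero.2 fun h => by
        rw [neg_eq_zero] at h; rw [h, mul_zero] at hν; exact zero_ne_one hν)
      exact hνu.dvd_mul_left.1 h5
    · omega

end CfsgLib.SpecOrth
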