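import Mathlib

/-!
An irreducible isometry `Y` with `Y ^ (q ^ h) = Y⁻¹` of a non-degenerate quadratic space of
dimension `2 h`, `q` odd: its centraliser is a field with `q ^ (2 h)` elements, isometries in it
have order dividing `q ^ h + 1` and act freely, and each non-zero value is taken
`(q ^ h + 1) q ^ (h - 1)` times.
-/

set_option autoImplicit false
set_option linter.unusedSectionVars false
set_option linter.style.haveILetI false

namespace CfsgLib.SpecOrth

open QuadraticMap

variable {F : Type*} [Field F] [Fintype F] {W : Type*} [AddCommGroup W] [Module F W]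
  [FiniteDimensional F W]

/-- The hypotheses on the isometry `Y`. -/
structure IrredPair (Q : QuadraticForm F W) (Y : Module.End F W) (h : ℕ) : Prop where
  two : (2 : F) ≠ 0
  pos : 0 < h
  dim : Module.finrank F W = 2 * h
  nondeg : ∀ w, (∀ w', polar Q w w' = 0) → w = 0
  iso : ∀ w, Q (Y w) = Q w
  inv : Y * Y ^ (Fintype.card F ^ h) = 1
  irred : ∀ S : Submodule F W, (∀ w ∈ S, Y w ∈ S) → S = ⊥ ∨ S = ⊤

variable {Q : QuadraticForm F W} {Y : Module.End F W} {h : ℕ}

theorem IrredPair.nontrivial (H : IrredPair Q Y h) : Nontrivial W :=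
  Module.nontrivial_of_finrank_pos (R := F) (by rw [H.dim]; have := H.pos; omega)

/-- The centraliser of `Y`. -/
abbrev cent (Y : Module.End F W) : Subalgebra F (Module.End F W) := Subalgebra.centralizer F {Y}

theorem mem_cent {z : Module.End F W} : z ∈ cent Y ↔ Y * z = z * Y := by
  simp [cent, Subalgebra.mem_centralizer_iff]

theorem mem_cent_of_mem_adjoin {e : Module.End F W} (he : e ∈ Algebra.adjoin F {Y}) :
    e ∈ cent Y :=
  Algebra.adjoin_le (Set.singleton_subset_iff.2 (mem_cent.2 rfl)) he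

theorem IrredPair.eq_zero_or_injective (H : IrredPair Q Y h) {z : Module.End F W} (hz : z ∈ cent Y) :
    z = 0 ∨ Function.Injective z := by
  rcases H.irred (LinearMap.ker z) (fun w hw => by
    rw [LinearMap.mem_ker] at hw ⊢
    rw [← Module.End.mul_apply, ← mem_cent.1 hz, Module.End.mul_apply, hw, map_zero]) with h | h
  · exact Or.inr (LinearMap.ker_eq_bot.1 h)
  · exact Or.inl (LinearMap.ker_eq_top.1 h)

theorem IrredPair.eval_surjective (H : IrredPair Q Y h) {w₀ : W} (hw : w₀ ≠ 0) (w : W) :
    ∃ e ∈ Algebra.adjoin F {Y}, e w₀ = w := by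
  let S : Submodule F W :=
    (Algebra.adjoin F {Y}).toSubmodule.map (LinearMap.applyₗ (R := F) (M₂ := W) w₀)
  rcases H.irred S (fun w hw' => by
    obtain ⟨e, he, rfl⟩ := hw'
    exact ⟨Y * e, Subalgebra.mul_mem _ (Algebra.self_mem_adjoin_singleton F Y) he, rfl⟩) with h | h
  · exfalso
    have h1 : w₀ ∈ S := ⟨1, Subalgebra.one_mem _, rfl⟩
    rw [h] at h1
    exact hw ((Submodule.mem_bot F).1 h1)
  · have h1 : w ∈ S := by rw [h]; trivial
    obtain ⟨e, he, rfl⟩ := h1
    exact ⟨e, he, rfl⟩

theorem IrredPair.cent_eq (H : IrredPair Q Y h) : cent Y = Algebra.adjoin F {Y} := by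
  refine le_antisymm (fun z hz => ?_) (fun e he => mem_cent_of_mem_adjoin he)
  have := H.nontrivial
  obtain ⟨w₀, hw₀⟩ := exists_ne (0 : W)
  obtain ⟨e, he, hew⟩ := H.eval_surjective hw₀ (z w₀)
  rcases H.eq_zero_or_injective (sub_mem (mem_cent_of_mem_adjoin he) hz) with h | h
  · rw [sub_eq_zero] at h
    exact h ▸ he
  · exfalso
    apply hw₀
    apply h
    rw [map_zero, LinearMap.sub_apply, hew, sub_self]

theorem IrredPair.mul_comm_cent (H : IrredPair Q Y h) {a b : Module.End F W} (ha : a ∈ cent Y)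
    (hb : b ∈ cent Y) : a * b = b * a := by
  rw [H.cent_eq] at ha
  exact Algebra.commute_of_mem_adjoin_singleton_of_commute ha (mem_cent.1 hb).symm |>.symm

theorem IrredPair.adjoint (H : IrredPair Q Y h) {e : Module.End F W} (he : e ∈ cent Y) :
    ∀ w w', polar Q (e w) w' = polar Q w ((e ^ (Fintype.card F ^ h)) w') := by
  have := H.nontrivial
  obtain ⟨p, hp⟩ := CharP.exists F
  obtain ⟨f, hp', hFp⟩ := FiniteField.card F p
  have : Fact p.Prime := ⟨hp'⟩
  have : CharP (Module.End F W) p :=
    charP_of_injective_algebraMap (algebraMap F (Module.End F W)).injective p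
  have hN : Fintype.card F ^ h = p ^ ((f : ℕ) * h) := by rw [hFp, pow_mul]
  have hc := H.cent_eq
  rw [H.cent_eq] at he
  induction he using Algebra.adjoin_induction with
  | mem x hx =>
    rw [Set.mem_singleton_iff] at hx
    intro w w'
    have h1 : w' = Y ((Y ^ (Fintype.card F ^ h)) w') := by
      rw [← Module.End.mul_apply, H.inv, Module.End.one_apply]
    rw [hx]
    conv_lhs => rw [h1]
    simp [QuadraticMap.polar, ← map_add, H.iso]
  | algebraMap c =>
    intro w w'
    rw [← map_pow, FiniteField.pow_card_pow]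
    simp [Module.algebraMap_end_apply]
  | add x y hx hy ihx ihy =>
    intro w w'
    have hxy : Commute x y :=
      H.mul_comm_cent (mem_cent_of_mem_adjoin hx) (mem_cent_of_mem_adjoin hy)
    rw [hN, add_pow_char_pow_of_commute _ _ hxy, ← hN, LinearMap.add_apply, LinearMap.add_apply,
      polar_add_left, polar_add_right, ihx, ihy]
  | mul x y hx hy ihx ihy =>
    intro w w'
    have hxy : Commute x y :=
      H.mul_comm_cent (mem_cent_of_mem_adjoin hx) (mem_cent_of_mem_adjoin hy)
    rw [hxy.mul_pow, Module.End.mul_apply, ihx, ihy, ← Module.End.mul_apply]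
    exact congrArg _ (LinearMap.congr_fun (hxy.symm.pow_pow _ _).eq w')

/-- Isometries commuting with `Y`. -/
theorem IrredPair.pow_eq_one (H : IrredPair Q Y h) {z : Module.End F W} (hz : z ∈ cent Y)
    (hiso : ∀ w, Q (z w) = Q w) : z ^ (Fintype.card F ^ h + 1) = 1 := by
  refine LinearMap.ext fun w' => sub_eq_zero.1 (H.nondeg _ fun w => ?_)
  rw [polar_comm, polar_sub_right, pow_succ, Module.End.mul_apply, ← H.adjoint hz,
    Module.End.one_apply, sub_eq_zero]
  simp [QuadraticMap.polar, ← map_add, hiso]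

theorem IrredPair.free (H : IrredPair Q Y h) {z : Module.End F W} (hz : z ∈ cent Y) {w : W}
    (hw : w ≠ 0) (hzw : z w = w) : z = 1 := by
  rcases H.eq_zero_or_injective (sub_mem hz (one_mem _)) with h | h
  · exact sub_eq_zero.1 h
  · exact absurd (h (show (z - 1) w = (z - 1) 0 by simp [hzw])) hw

theorem IrredPair.card_value (H : IrredPair Q Y h) {c : F} (hc : c ≠ 0) :
    Nat.card {w : W // Q w = c} = (Fintype.card F ^ h + 1) * Fintype.card F ^ (h - 1) := by
  classical
  have := H.nontrivial
  have : Finite W := Module.finite_of_finite F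
  have : Finite (Module.End F W) := Finite.of_injective
    (fun f => (f : W → W)) LinearMap.coe_injective
  obtain ⟨w₀, hw₀⟩ := exists_ne (0 : W)
  let E := cent Y
  letI : CommRing E :=
    { (inferInstance : Ring E) with
      mul_comm := fun a b => Subtype.ext (H.mul_comm_cent a.2 b.2) }
  let ev : E →ₗ[F] W :=
    { toFun := fun e => e.1 w₀
      map_add' := fun _ _ => rfl
      map_smul' := fun _ _ => rfl }
  have hev : Function.Bijective ev := by
    refine ⟨(injective_iff_map_eq_zero ev).2 fun e he => Subtype.ext ?_, fun w => ?_⟩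
    · rcases H.eq_zero_or_injective e.2 with h | h
      · exact h
      · exact absurd (h (show e.1 w₀ = e.1 0 by rw [map_zero]; exact he)) hw₀
    · obtain ⟨e, he, hew⟩ := H.eval_surjective hw₀ w
      exact ⟨⟨e, mem_cent_of_mem_adjoin he⟩, hew⟩
  have : NoZeroDivisors E := ⟨fun {a b} hab => by
    rcases H.eq_zero_or_injective a.2 with h | h
    · exact Or.inl (Subtype.ext h)
    · exact Or.inr (Subtype.ext (LinearMap.ext fun w => h (by
        rw [← Module.End.mul_apply, ← MulMemClass.coe_mul, hab]; simp)))⟩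
  have : IsDomain E := NoZeroDivisors.to_isDomain _
  letI : Fintype E := Fintype.ofFinite E
  letI : Field E := Fintype.fieldOfDomain E
  set q := Fintype.card F with hq
  set N := q ^ h with hNdef
  have hq1 : 1 < q := Fintype.one_lt_card
  have hN1 : 1 < N := Nat.one_lt_pow H.pos.ne' hq1
  have hcardE : Nat.card E = N * N := by
    rw [Nat.card_eq_of_bijective ev hev, Module.natCard_eq_pow_finrank (K := F), H.dim,
      Nat.card_eq_fintype_card, hNdef, ← pow_add, two_mul]
  have hU : Nat.card Eˣ = (N + 1) * (N - 1) := by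
    rw [Nat.card_units, hcardE]
    obtain ⟨k, hk⟩ : ∃ k, N = k + 1 := ⟨N - 1, by omega⟩
    rw [hk, Nat.add_sub_cancel,
      show (k + 1) * (k + 1) = (k + 1 + 1) * k + 1 by ring, Nat.add_sub_cancel]
  -- the `(N + 1)`-th power map on units
  let f : Eˣ →* Eˣ := powMonoidHom (N + 1)
  have hker : Nat.card f.ker = N + 1 := by
    rw [IsCyclic.card_powMonoidHom_ker, hU, Nat.gcd_mul_right_left]
  have hrange : f.range = (powMonoidHom (N - 1) : Eˣ →* Eˣ).ker := by
    refine Subgroup.eq_of_le_of_card_ge ?_ ?_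
    · rintro _ ⟨u, rfl⟩
      rw [MonoidHom.mem_ker]
      change (u ^ (N + 1)) ^ (N - 1) = 1
      rw [← pow_mul, ← hU, pow_card_eq_one']
    · rw [IsCyclic.card_powMonoidHom_ker, IsCyclic.card_powMonoidHom_range, hU,
        Nat.gcd_mul_right_left, Nat.gcd_mul_left_left, Nat.mul_div_cancel_left _ (by omega)]
  have hfix0 : ∀ t : E, t ^ N = t → t ≠ 0 → Nat.card {e : E // e ^ (N + 1) = t} = N + 1 := by
    intro t ht ht0
    have hu : Units.mk0 t ht0 ∈ f.range := by
      rw [hrange, MonoidHom.mem_ker]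
      refine Units.ext ?_
      change t ^ (N - 1) = 1
      apply mul_right_cancel₀ ht0
      rw [← pow_succ, Nat.sub_add_cancel (by omega), ht, one_mul]
    obtain ⟨u, hu⟩ := hu
    have hu' : (u : E) ^ (N + 1) = t := congrArg Units.val hu
    refine Eq.trans ?_ hker
    refine (Nat.card_eq_of_bijective
      (fun k : f.ker => (⟨(k : Eˣ) * u, ?_⟩ : {e : E // e ^ (N + 1) = t})) ⟨?_, ?_⟩).symm
    · have hk : ((k : Eˣ) : E) ^ (N + 1) = 1 := congrArg Units.val k.2
      rw [mul_pow, hk, hu', one_mul]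
    · intro k k' hkk
      have := congrArg Subtype.val hkk
      exact Subtype.ext (Units.ext (mul_right_cancel₀ u.ne_zero this))
    · rintro ⟨e, he⟩
      have he0 : e ≠ 0 := by rintro rfl; rw [zero_pow (by omega)] at he; exact ht0 he.symm
      refine ⟨⟨Units.mk0 e he0 * u⁻¹, ?_⟩, Subtype.ext ?_⟩
      · rw [MonoidHom.mem_ker, map_mul, map_inv, mul_inv_eq_one]
        exact Units.ext (he.trans hu'.symm)
      · simp
  -- the fixed field
  obtain ⟨p, hp⟩ := CharP.exists F
  obtain ⟨g, hp', hFp⟩ := FiniteField.card F p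
  have : Fact p.Prime := ⟨hp'⟩
  have : CharP E p := charP_of_injective_algebraMap (algebraMap F E).injective p
  have hNp : N = p ^ ((g : ℕ) * h) := by rw [hNdef, hq, hFp, pow_mul]
  let E₀ : Submodule F E :=
    { carrier := {t | t ^ N = t}
      zero_mem' := zero_pow (by omega)
      add_mem' := fun {a b} ha hb => by
        change (a + b) ^ N = a + b
        rw [hNp, add_pow_char_pow, ← hNp, ha, hb]
      smul_mem' := fun a t ht => by
        change (a • t) ^ N = a • t
        rw [_root_.smul_pow, ht, hNdef, hq, FiniteField.pow_card_pow] }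
  have hcard0 : Nat.card E₀ = N := by
    let K := (powMonoidHom (N - 1) : Eˣ →* Eˣ).ker
    have hKc : Nat.card K = N - 1 := by
      rw [IsCyclic.card_powMonoidHom_ker, hU, Nat.gcd_mul_left_left]
    have hK : ∀ e : Eˣ, e ∈ K ↔ (e : E) ^ N = e := by
      intro e
      rw [MonoidHom.mem_ker, Units.ext_iff]
      change (e : E) ^ (N - 1) = 1 ↔ _
      constructor
      · intro he
        rw [← Nat.sub_add_cancel (show 1 ≤ N by omega), pow_succ, he, one_mul]
      · intro he
        apply mul_right_cancel₀ e.ne_zero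
        rw [← pow_succ, Nat.sub_add_cancel (by omega), he, one_mul]
    have e1 : {t : E₀ // t ≠ 0} ≃ K :=
      { toFun := fun t => ⟨Units.mk0 t.1.1 (fun h => t.2 (Subtype.ext h)), (hK _).2 t.1.2⟩
        invFun := fun k => ⟨⟨(k.1 : E), (hK k.1).1 k.2⟩, fun h =>
          k.1.ne_zero (congrArg Subtype.val h)⟩
        left_inv := fun t => rfl
        right_inv := fun k => Subtype.ext (Units.ext rfl) }
    have h1 := Nat.card_congr e1
    rw [hKc, Nat.card_eq_fintype_card, Fintype.card_subtype_compl, Fintype.card_subtype_eq,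
      ← Nat.card_eq_fintype_card] at h1
    have : 0 < Nat.card E₀ := Nat.card_pos
    omega
  let ψ : E →ₗ[F] F := (2 : F)⁻¹ • (Q.polarBilin w₀).comp ev
  have hψ : ∀ e : E, Q (ev e) = ψ (e ^ (N + 1)) := by
    intro e
    have h1 := H.adjoint e.2 w₀ (ev e)
    change polar Q (ev e) (ev e) = _ at h1
    rw [QuadraticMap.polar_self] at h1
    change Q (ev e) = (2 : F)⁻¹ * polar Q w₀ (((e ^ (N + 1)) : E).1 w₀)
    rw [pow_succ, MulMemClass.coe_mul, SubmonoidClass.coe_pow, Module.End.mul_apply]
    change _ = _ * polar Q w₀ ((e.1 ^ N) (ev e))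
    rw [← h1, nsmul_eq_mul, Nat.cast_ofNat, ← mul_assoc, inv_mul_cancel₀ H.two, one_mul]
  have hmem0 : ∀ e : E, e ^ (N + 1) ∈ E₀ := by
    intro e
    change (e ^ (N + 1)) ^ N = e ^ (N + 1)
    have h1 : e ^ (N * N) = e := by rw [← hcardE, Nat.card_eq_fintype_card, FiniteField.pow_card]
    rw [← pow_mul, Nat.succ_mul, pow_add, h1, pow_succ, mul_comm]
  let ψ₀ : E₀ →ₗ[F] F := ψ.comp E₀.subtype
  have hψ0 : ψ₀ ≠ 0 := by
    intro h0
    have hz : ∀ w, Q w = 0 := fun w => by
      obtain ⟨e, rfl⟩ := hev.2 w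
      rw [hψ]
      exact LinearMap.congr_fun h0 ⟨_, hmem0 e⟩
    exact hw₀ (H.nondeg w₀ fun w' => by simp [QuadraticMap.polar, hz])
  have hsurj := LinearMap.surjective hψ0
  obtain ⟨t₀, ht₀⟩ := hsurj c
  have hfib : Nat.card {t : E₀ // ψ₀ t = c} = q ^ (h - 1) := by
    have e1 : {t : E₀ // ψ₀ t = c} ≃ LinearMap.ker ψ₀ :=
      { toFun := fun t => ⟨t.1 - t₀, by simp [t.2, ht₀]⟩
        invFun := fun k => ⟨k.1 + t₀, by simp [ht₀, LinearMap.mem_ker.1 k.2]⟩
        left_inv := fun t => by simp
        right_inv := fun k => by simp }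
    rw [Nat.card_congr e1, Module.natCard_eq_pow_finrank (K := F), Nat.card_eq_fintype_card]
    have h1 := LinearMap.finrank_range_add_finrank_ker ψ₀
    rw [LinearMap.range_eq_top.2 hsurj, finrank_top, Module.finrank_self] at h1
    have h2 := Module.natCard_eq_pow_finrank (K := F) (V := E₀)
    rw [hcard0, hNdef, Nat.card_eq_fintype_card] at h2
    have h3 := Nat.pow_right_injective hq1 h2
    congr 1
    omega
  have e2 : {w : W // Q w = c} ≃ Σ t : {t : E₀ // ψ₀ t = c}, {e : E // e ^ (N + 1) = t.1.1} :=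
    ((Equiv.ofBijective ev hev).subtypeEquiv fun e => Iff.rfl).symm.trans
      { toFun := fun e =>
          ⟨⟨⟨_, hmem0 e.1⟩, (hψ e.1).symm.trans e.2⟩, e.1, rfl⟩
        invFun := fun s => ⟨s.2.1, by
          change Q (ev s.2.1) = c
          rw [hψ, s.2.2]; exact s.1.2⟩
        left_inv := fun e => rfl
        right_inv := fun s => by
          obtain ⟨⟨⟨t, ht⟩, ht'⟩, e, he⟩ := s
          simp only at he
          subst he
          rfl }
  have : ∀ t : {t : E₀ // ψ₀ t = c}, Nat.card {e : E // e ^ (N + 1) = t.1.1} = N + 1 := by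
    intro t
    refine hfix0 _ t.1.2 fun h0 => hc ?_
    have h1 : ψ t.1.1 = c := t.2
    rw [h0, map_zero] at h1
    exact h1.symm
  rw [Nat.card_congr e2, Nat.card_sigma, Finset.sum_congr rfl (fun t _ => this t), Finset.sum_const,
    Finset.card_univ, ← Nat.card_eq_fintype_card, hfib, smul_eq_mul, mul_comm]

end CfsgLib.SpecOrth
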