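import Mathlib
import Cfsg.Agent.Lib.SpecOrth.Adjacency
import Cfsg.Agent.Lib.SpecOrth.IrredTorus
import Cfsg.Agent.Lib.Orth.Omega

/-!
`Ω_(2n+1)(q)` has no element of order `2 s` when `η(ord_s q) = n` and the torus of dimension `2 n`
containing elements of order `s` has order twice an odd number.
-/

set_option autoImplicit false
set_option linter.unusedSectionVars false
set_option maxHeartbeats 1600000

namespace CfsgLib.SpecOrth

open Matrix Polynomial CfsgLib.Orth CfsgLib.SpecSp.PrimeGraph Cfsg.Agent.Spinor57
open QuadraticMap (polar)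

variable {F : Type*} [Field F] [Fintype F]

/-- The kernel of an irreducible factor of the minimal polynomial has dimension at least its degree. -/
theorem exists_ne_zero_ker {V : Type*} [AddCommGroup V] [Module F V] [FiniteDimensional F V]
    {A : Module.End F V} {g : F[X]} (hg : Irreducible g) (h : g ∣ minpoly F A) :
    ∃ v, v ≠ 0 ∧ aeval A g v = 0 := by
  obtain ⟨c, hc⟩ := h
  have hμ : minpoly F A ≠ 0 := minpoly.ne_zero (LinearMap.isIntegral A)
  have hc0 : c ≠ 0 := by rintro rfl; rw [mul_zero] at hc; exact hμ hc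
  obtain ⟨u, hu⟩ : ∃ u, aeval A c u ≠ 0 := by
    by_contra hall
    push Not at hall
    have := natDegree_le_of_dvd (minpoly.dvd F A (LinearMap.ext hall)) hc0
    rw [hc, natDegree_mul hg.ne_zero hc0] at this
    have := hg.natDegree_pos
    omega
  refine ⟨_, hu, ?_⟩
  rw [← Module.End.mul_apply, ← map_mul, ← hc, minpoly.aeval]
  rfl

theorem natDegree_le_finrank {V : Type*} [AddCommGroup V] [Module F V] [FiniteDimensional F V]
    {A : Module.End F V} {g : F[X]} (hg : Irreducible g) (S : Submodule F V)
    (hS : ∀ v ∈ S, A v ∈ S) {v : V} (hv : v ∈ S) (hv0 : v ≠ 0) (hgv : aeval A g v = 0) :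
    g.natDegree ≤ Module.finrank F S := by
  have hpow : ∀ i : ℕ, (A ^ i) v ∈ S := fun i => by
    induction i with
    | zero => simpa
    | succ i ih => rw [pow_succ', Module.End.mul_apply]; exact hS _ ih
  have hli : LinearIndependent F fun i : Fin g.natDegree => (⟨(A ^ (i : ℕ)) v, hpow i⟩ : S) := by
    refine Fintype.linearIndependent_iff.2 fun c hc => ?_
    let R : F[X] := ∑ i : Fin g.natDegree, Polynomial.C (c i) * Polynomial.X ^ (i : ℕ)
    have hR : aeval A R v = 0 := by
      have h1 := congrArg Subtype.val hc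
      simpa [R, map_sum, LinearMap.sum_apply, Module.algebraMap_end_apply] using h1
    have hdvd : g ∣ R := by
      by_contra hnd
      obtain ⟨a, b, hab⟩ := hg.coprime_iff_not_dvd.2 hnd
      apply hv0
      calc v = aeval A (a * g + b * R) v := by rw [hab, map_one]; rfl
        _ = 0 := by
          rw [map_add, map_mul, map_mul, LinearMap.add_apply, Module.End.mul_apply,
            Module.End.mul_apply, hgv, hR, map_zero, map_zero, add_zero]
    have hR0 : R = 0 := by
      refine eq_zero_of_dvd_of_degree_lt hdvd ?_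
      rw [degree_eq_natDegree hg.ne_zero]
      exact degree_sum_fin_lt c
    intro i
    have := congrArg (fun f : F[X] => f.coeff i) hR0
    simpa [R, coeff_X_pow, Fin.val_inj] using this
  simpa using hli.fintype_card_le_finrank

/-- An involution is outside `Ω` when its `-1` space takes a value an odd number of times up to sign. -/
theorem chi_eq_neg_one {ι : Type} [Fintype ι] [DecidableEq ι] [DecidableEq F]
    {Q : QuadraticForm F (ι → F)} (h2 : (2 : F) ≠ 0) (S : O Q) (hS : S * S = 1) {d : F} (hd : d ≠ 0)
    {k : ℕ} (hk : Odd k)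
    (hcount : Nat.card {w : LinearMap.ker (app S + 1) // Q w.1 = d} = 2 * k) : chi Q d S = -1 := by
  classical
  let W := LinearMap.ker (app S + 1)
  let U := LinearMap.ker (app S - 1)
  let P : Module.End F (ι → F) := (2 : F)⁻¹ • (1 - app S)
  have hSS : ∀ v, app S (app S v) = v := fun v => by rw [← app_mul, hS, app_one]
  have hWm : ∀ {w}, w ∈ W → app S w = -w := fun {w} hw => by
    simpa [W, add_eq_zero_iff_eq_neg] using hw
  have hUm : ∀ {u}, u ∈ U → app S u = u := fun {u} hu => by
    simpa [U, sub_eq_zero] using hu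
  have hPW : ∀ v, P v ∈ W := fun v => by
    simp only [W, P, LinearMap.mem_ker, LinearMap.add_apply, Module.End.one_apply,
      LinearMap.smul_apply, LinearMap.sub_apply, map_smul, map_sub, hSS]
    module
  have hPU : ∀ v, v - P v ∈ U := fun v => by
    simp only [U, P, LinearMap.mem_ker, LinearMap.sub_apply, Module.End.one_apply,
      LinearMap.smul_apply, map_smul, map_sub, hSS]
    match_scalars <;> field_simp <;> ring
  have hPw : ∀ w ∈ W, ∀ u ∈ U, P (w + u) = w := fun w hw u hu => by
    simp only [P, LinearMap.sub_apply, Module.End.one_apply, LinearMap.smul_apply, map_add, hWm hw,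
      hUm hu]
    match_scalars <;> field_simp <;> ring
  have horth : ∀ w ∈ W, ∀ u ∈ U, polar Q w u = 0 := fun w hw u hu => by
    have h1 : polar Q (app S w) (app S u) = polar Q w u := polar_app S w u
    rw [hWm hw, hUm hu, QuadraticMap.polar_neg_left] at h1
    have h3 : (2 : F) * polar Q w u = 0 := by linear_combination -h1
    exact (mul_eq_zero.1 h3).resolve_left h2
  let σ := shellPerm Q d S
  have hσ2 : σ ^ 2 = 1 := by rw [pow_two, ← map_mul, hS, map_one]
  have hsupp : ∀ v : Shell Q d, σ v ≠ v ↔ P v.1 ≠ 0 := fun v => by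
    rw [not_iff_not, Subtype.ext_iff]
    change app S v.1 = v.1 ↔ _
    constructor
    · intro h; simp [P, h]
    · intro h
      have h1 := hUm (hPU v.1)
      rwa [h, sub_zero] at h1
  let A : F → ℕ := fun e => Nat.card {w : W // w ≠ 0 ∧ Q w.1 = e}
  have hAeven : ∀ e, ((A e : ℕ) : ZMod 2) = 0 := fun e => by
    change ((Nat.card {w : W // w ≠ 0 ∧ Q w.1 = e} : ℕ) : ZMod 2) = 0
    rw [Nat.card_eq_fintype_card, ← Finset.card_univ, Finset.card_eq_sum_ones, Nat.cast_sum,
      Nat.cast_one]
    refine Finset.sum_involution (fun w _ => ⟨-w.1, neg_ne_zero.2 w.2.1, by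
      rw [Submodule.coe_neg, QuadraticMap.map_neg]; exact w.2.2⟩) (fun w _ => by decide)
      (fun w _ _ h => w.2.1 ?_) (fun w _ => Finset.mem_univ _)
      (fun w _ => Subtype.ext (neg_neg w.1))
    have h1 : -w.1 = w.1 := congrArg Subtype.val h
    have h3 : (2 : F) • w.1 = 0 := by rw [two_smul]; nth_rewrite 1 [← h1]; exact neg_add_cancel _
    exact (smul_eq_zero.1 h3).resolve_left h2
  have hsplit : σ.support.card = ∑ u : U, A (d - Q u.1) := by
    rw [← Nat.card_sigma, Nat.card_eq_fintype_card, ← Fintype.card_coe]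
    refine Fintype.card_congr ?_
    exact
      { toFun := fun v => ⟨⟨_, hPU v.1.1⟩, ⟨P v.1.1, hPW v.1.1⟩,
          fun h => (hsupp v.1).1 (Equiv.Perm.mem_support.1 v.2) (congrArg Subtype.val h), by
          show Q (P v.1.1) = d - Q (v.1.1 - P v.1.1)
          have h1 : Q (P v.1.1 + (v.1.1 - P v.1.1)) = d := by rw [add_sub_cancel]; exact v.1.2
          rw [QuadraticMap.map_add ⇑Q, horth _ (hPW v.1.1) _ (hPU v.1.1), add_zero] at h1
          linear_combination h1⟩
        invFun := fun s => ⟨⟨s.2.1.1 + s.1.1, by
          rw [QuadraticMap.map_add ⇑Q, horth _ s.2.1.2 _ s.1.2, s.2.2.2]; ring⟩, by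
          rw [Equiv.Perm.mem_support, hsupp]
          show P (s.2.1.1 + s.1.1) ≠ 0
          rw [hPw _ s.2.1.2 _ s.1.2]
          exact fun h => s.2.2.1 (Subtype.ext h)⟩
        left_inv := fun v => Subtype.ext (Subtype.ext (by simp))
        right_inv := fun s => by
          obtain ⟨⟨u, hu⟩, ⟨w, hw⟩, hw'⟩ := s
          have e1 := hPw w hw u hu
          refine Sigma.subtype_ext (Subtype.ext ?_) (Subtype.ext ?_)
          · show w + u - P (w + u) = u
            rw [e1]; abel
          · exact e1 }
  have hA0 : A d = 2 * k := by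
    rw [← hcount]
    exact Nat.card_congr (Equiv.subtypeEquivRight fun w => ⟨fun h => h.2, fun h =>
      ⟨fun h0 => hd (by rw [← h, h0, ZeroMemClass.coe_zero, QuadraticMap.map_zero]), h⟩⟩)
  choose b hb using fun e => (ZMod.natCast_eq_zero_iff _ _).1 (hAeven e)
  have hbd : b d = k := by have := hb d; omega
  have hhalf : σ.support.card = 2 * ∑ u : U, b (d - Q u.1) := by
    rw [hsplit, Finset.mul_sum]
    exact Finset.sum_congr rfl fun u _ => hb _
  have hodd : Odd (∑ u : U, b (d - Q u.1)) := by
    rw [← ZMod.natCast_eq_one_iff_odd, ← Finset.add_sum_erase _ _ (Finset.mem_univ (0 : U)),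
      Nat.cast_add, ZeroMemClass.coe_zero, QuadraticMap.map_zero, sub_zero, hbd,
      ZMod.natCast_eq_one_iff_odd.2 hk, add_eq_left, Nat.cast_sum]
    refine Finset.sum_involution (fun u _ => -u) (fun u _ => ?_) (fun u hu _ => ?_)
      (fun u hu => ?_) (fun u _ => neg_neg u)
    · rw [Submodule.coe_neg, QuadraticMap.map_neg]; exact CharTwo.add_self_eq_zero _
    · intro h1
      refine (Finset.mem_erase.1 hu).1 ?_
      have h3 : (2 : F) • u = 0 := by rw [two_smul]; nth_rewrite 1 [← h1]; exact neg_add_cancel u
      exact (smul_eq_zero.1 h3).resolve_left h2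
    · simpa using hu
  change Equiv.Perm.sign σ = -1
  have hfp := Equiv.Perm.card_fixedPoints σ
  have hcd : (Fintype.card (Shell Q d) - Fintype.card ↑(Function.fixedPoints σ)) = σ.support.card := by
    have := Equiv.Perm.sum_cycleType σ
    have := Finset.card_le_univ σ.support
    omega
  rw [Equiv.Perm.sign_of_pow_two_eq_one hσ2, hcd, hhalf, Nat.mul_div_cancel_left _ two_pos]
  exact hodd.neg_one_pow

/-- Values of a form on the sum of two totally singular subspaces in duality. -/
theorem card_value_split {W : Type*} [AddCommGroup W] [Module F W] [FiniteDimensional F W]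
    (Q : QuadraticForm F W) (hnd : ∀ w, (∀ w', polar Q w w' = 0) → w = 0) (A B : Submodule F W)
    (hAB : IsCompl A B) (hA : ∀ a ∈ A, Q a = 0) (hB : ∀ b ∈ B, Q b = 0) {m : ℕ}
    (hdA : Module.finrank F A = m) (hdB : Module.finrank F B = m) (hm : 1 ≤ m) {c : F} (hc : c ≠ 0) :
    Nat.card {w : W // Q w = c} = (Fintype.card F ^ m - 1) * Fintype.card F ^ (m - 1) := by
  classical
  have : Finite W := Module.finite_of_finite F
  have : Fintype A := Fintype.ofFinite A
  let e := Submodule.prodEquivOfIsCompl A B hAB
  have hQe : ∀ p : A × B, Q (e p) = polar Q p.1.1 p.2.1 := fun p => by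
    rw [Submodule.coe_prodEquivOfIsCompl', QuadraticMap.map_add ⇑Q, hA _ p.1.2, hB _ p.2.2]
    ring
  have e1 : {w : W // Q w = c} ≃ Σ a : {a : A // a ≠ 0}, {b : B // polar Q a.1.1 b.1 = c} :=
    ((e.toEquiv.subtypeEquiv fun p => (by exact Iff.rfl :
      Q (e p) = c ↔ Q (e.toEquiv p) = c)).symm).trans
      { toFun := fun p => ⟨⟨p.1.1, fun h => hc (by
            rw [← p.2, hQe, h, ZeroMemClass.coe_zero, QuadraticMap.polar_zero_left])⟩,
          p.1.2, by rw [← hQe]; exact p.2⟩
        invFun := fun s => ⟨(s.1.1, s.2.1), by rw [hQe]; exact s.2.2⟩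
        left_inv := fun p => rfl
        right_inv := fun s => rfl }
  have hfib : ∀ a : {a : A // a ≠ 0},
      Nat.card {b : B // polar Q a.1.1 b.1 = c} = Fintype.card F ^ (m - 1) := by
    intro a
    let ψ : B →ₗ[F] F := (Q.polarBilin a.1.1).comp B.subtype
    have hψ : ψ ≠ 0 := fun h0 => a.2 (Subtype.ext (hnd a.1.1 fun w => by
      obtain ⟨p, rfl⟩ := e.surjective w
      rw [Submodule.coe_prodEquivOfIsCompl', QuadraticMap.polar_add_right]
      have h1 : polar Q a.1.1 p.1.1 = 0 := by
        rw [QuadraticMap.polar, hA _ (A.add_mem a.1.2 p.1.2), hA _ a.1.2, hA _ p.1.2]; ring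
      have h3 : polar Q a.1.1 p.2.1 = 0 := LinearMap.congr_fun h0 p.2
      rw [h1, h3, add_zero]))
    have hsurj := LinearMap.surjective hψ
    obtain ⟨t₀, ht₀⟩ := hsurj c
    have e2 : {b : B // ψ b = c} ≃ LinearMap.ker ψ :=
      { toFun := fun t => ⟨t.1 - t₀, by simp [t.2, ht₀]⟩
        invFun := fun k => ⟨k.1 + t₀, by simp [ht₀, LinearMap.mem_ker.1 k.2]⟩
        left_inv := fun t => by simp
        right_inv := fun k => by simp }
    change Nat.card {b : B // ψ b = c} = _
    rw [Nat.card_congr e2, Module.natCard_eq_pow_finrank (K := F), Nat.card_eq_fintype_card]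
    have h1 := LinearMap.finrank_range_add_finrank_ker ψ
    rw [LinearMap.range_eq_top.2 hsurj, finrank_top, Module.finrank_self, hdB] at h1
    congr 1
    omega
  rw [Nat.card_congr e1, Nat.card_sigma, Finset.sum_congr rfl (fun a _ => hfib a), Finset.sum_const,
    Finset.card_univ, Fintype.card_subtype_compl, Fintype.card_subtype_eq,
    ← Nat.card_eq_fintype_card (α := A), Module.natCard_eq_pow_finrank (K := F), hdA,
    Nat.card_eq_fintype_card, smul_eq_mul]

/-- No element of order `2 s`. -/
theorem no_order_two (h2 : (2 : F) ≠ 0) {n : ℕ} (hn : 1 ≤ n) {s : ℕ} [hs : Fact s.Prime] (hs2 : s ≠ 2)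
    (hs0 : (s : F) ≠ 0) {k : ℕ} (hk : k = orderOf ((Fintype.card F : ℕ) : ZMod s)) (ha : IsEta k n)
    (hodd : ¬ 2 ∣ topTorus F n k / 2) (x : O (qOdd n F)) (hx : x ∈ commutator (O (qOdd n F))) :
    orderOf x ≠ 2 * s := by
  intro hord
  classical
  let Q := qOdd n F
  have hQ : Q.polarBilin.Nondegenerate := qOdd_nondegenerate h2
  set q := Fintype.card F with hq
  have hqodd : Odd q := by
    refine Nat.odd_iff.2 (FiniteField.odd_card_of_char_ne_two fun hch => ?_)
    have : CharP F 2 := ringChar.of_eq hch
    exact h2 CharTwo.two_eq_zero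
  obtain ⟨M, hMo, hμ, hle⟩ := exists_sp_of_odd h2 x
  have hs1 := hs.out.two_le
  have h2s : ((2 * s : ℕ) : F) ≠ 0 := by
    rw [Nat.cast_mul, Nat.cast_ofNat]; exact mul_ne_zero h2 hs0
  have hsq : Squarefree (Polynomial.X ^ (2 * s) - Polynomial.C (1 : F)) :=
    (Polynomial.separable_X_pow_sub_C (1 : F) h2s one_ne_zero).squarefree
  rw [map_one] at hsq
  have hd := minpoly_dvd_X_pow_sub_one (hMo.trans hord).dvd
  obtain ⟨g, hg, hgμ, hg2⟩ := CfsgLib.SpecLin.PrimeGraph.exists_irreducible_not_dvd
    (minpoly.ne_zero (Matrix.isIntegral M.1)) (hsq.squarefree_of_dvd hd)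
    (not_dvd_sub_one (m := 2) (by
      rw [hMo, hord]; intro h; have := Nat.le_of_dvd two_pos h; omega))
  have : Fact (Irreducible g) := ⟨hg⟩
  have hdvd : ∀ m, g ∣ Polynomial.X ^ m - 1 ↔ AdjoinRoot.root g ^ m = 1 := fun m => by
    rw [← AdjoinRoot.mk_eq_zero, map_sub, map_pow, AdjoinRoot.mk_X, map_one, sub_eq_zero]
  have hg4s : g ∣ Polynomial.X ^ (4 * s) - 1 := by
    rw [hdvd, show 4 * s = 2 * s * 2 by ring, pow_mul, (hdvd _).1 (hgμ.trans hd), one_pow]
  have hg4 : ¬ g ∣ Polynomial.X ^ 4 - 1 := fun h => hg2 ((hdvd 2).2 (orderOf_dvd_iff_pow_eq_one.1 (by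
    have h1 := Nat.dvd_gcd (orderOf_dvd_of_pow_eq_one ((hdvd _).1 (hgμ.trans hd)))
      (orderOf_dvd_of_pow_eq_one ((hdvd _).1 h))
    refine h1.trans ?_
    rw [show 4 = 2 * 2 from rfl, Nat.gcd_mul_left,
      Nat.Coprime.gcd_eq_one ((Nat.coprime_primes hs.out Nat.prime_two).2 hs2), mul_one])))
  have hT2 : 2 ∣ topTorus F n k := by
    obtain ⟨c, hc⟩ : Odd (q ^ n) := hqodd.pow
    rw [hq] at hc
    unfold topTorus
    split_ifs <;> omega
  obtain ⟨ν, hν, hcase⟩ := top_factor (by omega) hn hle hs2 hk ha hodd hT2 hg hgμ hg4s hg4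
  -- the involution
  set S : O Q := x ^ s with hSdef
  have hS2 : S * S = 1 := by
    rw [hSdef, ← pow_add, ← two_mul, ← hord, pow_orderOf_eq_one]
  have hS1 : S ≠ 1 := fun h => by
    have := Nat.le_of_dvd hs.out.pos (orderOf_dvd_of_pow_eq_one (hSdef ▸ h))
    omega
  have hSapp : app S = app x ^ s := by
    have key : ∀ (j : ℕ) v, app (x ^ j) v = (app x ^ j) v := by
      intro j
      induction j with
      | zero => intro v; simp
      | succ j ih =>
        intro v
        rw [pow_succ, pow_succ, app_mul, Module.End.mul_apply, ih]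
    exact LinearMap.ext (key s)
  have hSS : ∀ v, app S (app S v) = v := fun v => by rw [← app_mul, hS2, app_one]
  let W := LinearMap.ker (app S + 1)
  let U := LinearMap.ker (app S - 1)
  have hxS : ∀ v, app x (app S v) = app S (app x v) := fun v => by
    rw [← app_mul, ← app_mul, hSdef, ← pow_succ', ← pow_succ]
  have hinvW : ∀ v ∈ W, app x v ∈ W := fun v hv => by
    simp only [W, LinearMap.mem_ker, LinearMap.add_apply, Module.End.one_apply] at hv ⊢
    rw [← hxS, ← map_add, hv, map_zero]
  have hinvU : ∀ v ∈ U, app x v ∈ U := fun v hv => by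
    simp only [U, LinearMap.mem_ker, LinearMap.sub_apply, Module.End.one_apply] at hv ⊢
    rw [← hxS, ← map_sub, hv, map_zero]
  have hkill : ∀ (f : F[X]) v, f ∣ Polynomial.X ^ s - Polynomial.C ν → aeval (app x) f v = 0 →
      app S v = ν • v := by
    rintro f v ⟨c, hc⟩ hv
    have h1 : aeval (app x) (Polynomial.X ^ s - Polynomial.C ν) v = 0 := by
      rw [hc, mul_comm, map_mul, Module.End.mul_apply, hv, map_zero]
    rw [map_sub, map_pow, aeval_X, aeval_C, LinearMap.sub_apply, Module.algebraMap_end_apply,
      sub_eq_zero, ← hSapp] at h1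
    exact h1
  -- the eigenspace of `ν` has dimension at least `2 n`
  let E := LinearMap.ker (app S - ν • 1)
  have hE : ∀ f : F[X], f ∣ Polynomial.X ^ s - Polynomial.C ν →
      LinearMap.ker (aeval (app x) f) ≤ E := fun f hf v hv => by
    simp [E, hkill f v hf (LinearMap.mem_ker.1 hv)]
  have hgapp : g ∣ minpoly F (app x) := hμ ▸ hgμ
  have hKinv : ∀ f : F[X], ∀ v ∈ LinearMap.ker (aeval (app x) f),
      app x v ∈ LinearMap.ker (aeval (app x) f) := fun f v hv => by
    rw [LinearMap.mem_ker] at hv ⊢
    have := LinearMap.congr_fun ((Commute.refl (app x)).symm.eq) v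
    rw [← Module.End.mul_apply, show aeval (app x) f * app x = aeval (app x) (f * Polynomial.X) by
      rw [map_mul, aeval_X], mul_comm, map_mul, Module.End.mul_apply, hv, map_zero]
  have hKdeg : ∀ f : F[X], Irreducible f → f ∣ minpoly F (app x) →
      f.natDegree ≤ Module.finrank F (LinearMap.ker (aeval (app x) f)) := fun f hf hfd => by
    obtain ⟨v, hv0, hv⟩ := exists_ne_zero_ker hf hfd
    exact natDegree_le_finrank hf _ (hKinv f) (LinearMap.mem_ker.2 hv) hv0 hv
  have hEd : 2 * n ≤ Module.finrank F E := by
    rcases hcase with ⟨-, hgd, -, hgs⟩ | ⟨hns, hgd, hpair, hgs⟩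
    · rw [← hgd]
      exact (hKdeg g hg hgapp).trans (Submodule.finrank_mono (hE g hgs))
    · have hg0 := coeff_zero_of_dvd_X_pow_sub_one (show 1 ≤ 4 * s by omega) hg4s
      have hgr := CfsgLib.SpecSp.irreducible_reverse hg hg0
      have h1 := hKdeg g hg hgapp
      have h3 := hKdeg g.reverse hgr (hμ ▸ (dvd_mul_left _ g).trans hpair)
      rw [CfsgLib.SpecSp.natDegree_reverse_eq hg0, hgd] at h3
      rw [hgd] at h1
      have hdis := Polynomial.disjoint_ker_aeval_of_isCoprime (f := app x)
        (hg.coprime_iff_not_dvd.2 hns)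
      have h4 := Submodule.finrank_sup_add_finrank_inf_eq (LinearMap.ker (aeval (app x) g))
        (LinearMap.ker (aeval (app x) g.reverse))
      rw [disjoint_iff.1 hdis, finrank_bot, add_zero] at h4
      have h5 := Submodule.finrank_mono (sup_le (hE g ((dvd_mul_right _ _).trans hgs))
        (hE g.reverse ((dvd_mul_left _ _).trans hgs)))
      omega
  -- the determinant forces `ν = -1` and a line of fixed vectors
  have hUW : IsCompl U W := by
    refine ⟨Submodule.disjoint_def.2 fun v hu hw => ?_, codisjoint_iff.2 (eq_top_iff.2 fun v _ => ?_)⟩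
    · simp only [U, W, LinearMap.mem_ker, LinearMap.sub_apply, LinearMap.add_apply,
        Module.End.one_apply] at hu hw
      have h3 : (2 : F) • v = 0 := by rw [sub_eq_zero] at hu; rw [two_smul]; rw [hu] at hw; exact hw
      exact (smul_eq_zero.1 h3).resolve_left h2
    · refine Submodule.mem_sup.2 ⟨(2 : F)⁻¹ • (v + app S v), ?_, (2 : F)⁻¹ • (v - app S v), ?_, ?_⟩
      · simp [U, hSS, map_smul]; module
      · simp [W, hSS, map_smul]
      · match_scalars <;> field_simp <;> ring
  have hsum := Submodule.finrank_add_eq_of_isCompl hUW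
  rw [Module.finrank_fintype_fun_eq_card] at hsum
  simp at hsum
  have hdet : LinearMap.det (app S) = (-1) ^ Module.finrank F W := by
    let e := Submodule.prodEquivOfIsCompl U W hUW
    have heq : app S = (e : _ →ₗ[F] _) ∘ₗ
        ((LinearMap.id : U →ₗ[F] U).prodMap ((-1 : F) • LinearMap.id : W →ₗ[F] W)) ∘ₗ
        (e.symm : _ →ₗ[F] _) := by
      refine LinearMap.ext fun v => ?_
      obtain ⟨⟨⟨u, hu⟩, ⟨w, hw⟩⟩, rfl⟩ := e.surjective v
      simp only [LinearMap.comp_apply, LinearEquiv.coe_coe, LinearEquiv.symm_apply_apply]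
      simp only [U, W, LinearMap.mem_ker, LinearMap.sub_apply, LinearMap.add_apply,
        Module.End.one_apply, sub_eq_zero, add_eq_zero_iff_eq_neg] at hu hw
      simp [e, Submodule.coe_prodEquivOfIsCompl', hu, hw]
    rw [heq, LinearMap.det_conj, LinearMap.det_prodMap, LinearMap.det_id, one_mul,
      LinearMap.det_smul, LinearMap.det_id, mul_one]
  have hdet1 : LinearMap.det (app S) = 1 := by
    have hmem : S ∈ commutator (O Q) := by rw [hSdef]; exact pow_mem hx s
    have h1 : detHom Q S = 1 := MonoidHom.mem_ker.1 (Abelianization.commutator_subset_ker _ hmem)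
    have h3 := congrArg Units.val h1
    rw [app, ← Matrix.toLin'_apply', LinearMap.det_toLin']
    exact h3
  rw [hdet] at hdet1
  have hWeven : Even (Module.finrank F W) := by
    by_contra hev
    rw [(Nat.not_even_iff_odd.1 hev).neg_one_pow] at hdet1
    exact h2 (by linear_combination -hdet1)
  have hWd : Module.finrank F W = 2 * n := by
    rcases mul_self_eq_one_iff.1 hν with hν1 | hν1
    · exfalso
      have hEU : E = U := by simp [E, U, hν1]
      rw [hEU] at hEd
      have hW0 : Module.finrank F W = 0 := by obtain ⟨c, hc⟩ := hWeven; omega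
      rw [Submodule.finrank_eq_zero] at hW0
      have hUtop : U = ⊤ := by simpa [hW0] using hUW.sup_eq_top
      refine hS1 (ext_app fun v => ?_)
      have : v ∈ U := hUtop ▸ Submodule.mem_top
      simpa [U, sub_eq_zero] using this
    · have hEW : E = W := by simp only [E, W, hν1]; congr 1; module
      rw [hEW] at hEd
      obtain ⟨c, hc⟩ := hWeven
      omega
  have hν1 : ν = -1 := by
    refine (mul_self_eq_one_iff.1 hν).resolve_left fun hν1 => ?_
    have hEU : E = U := by simp [E, U, hν1]
    rw [hEU] at hEd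
    omega
  have hEW : E = W := by simp only [E, W, hν1]; congr 1; module
  -- the count of values on `W`
  let Qw : QuadraticForm F W := Q.comp W.subtype
  have horth : ∀ w ∈ W, ∀ u ∈ U, polar Q w u = 0 := fun w hw u hu => by
    simp only [U, W, LinearMap.mem_ker, LinearMap.sub_apply, LinearMap.add_apply,
      Module.End.one_apply, sub_eq_zero, add_eq_zero_iff_eq_neg] at hu hw
    have h1 : polar Q (app S w) (app S u) = polar Q w u := polar_app S w u
    rw [hw, hu, QuadraticMap.polar_neg_left] at h1
    have h3 : (2 : F) * polar Q w u = 0 := by linear_combination -h1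
    exact (mul_eq_zero.1 h3).resolve_left h2
  have hnd : ∀ w : W, (∀ w' : W, polar Qw w w' = 0) → w = 0 := fun w hw => Subtype.ext (hQ.1 w.1 fun v => by
    obtain ⟨u, hu, w', hw', rfl⟩ := Submodule.mem_sup.1 (hUW.sup_eq_top ▸ Submodule.mem_top (x := v))
    rw [QuadraticMap.polarBilin_apply_apply, QuadraticMap.polar_add_right, horth _ w.2 _ hu, zero_add]
    exact hw ⟨w', hw'⟩)
  obtain ⟨c, hc⟩ : ∃ c, topTorus F n k = 2 * c ∧ Odd c := by
    obtain ⟨c, hc⟩ := hT2
    exact ⟨c, hc, by
      rw [hc, Nat.mul_div_cancel_left _ two_pos] at hodd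
      rwa [← Nat.not_even_iff_odd, even_iff_two_dvd]⟩
  have hcard : ∀ {d : F}, d ≠ 0 →
      Nat.card {w : W // Qw w = d} = topTorus F n k * q ^ (n - 1) := by
    intro d hd
    rcases hcase with ⟨hself, hgd, hgpow, hgs⟩ | ⟨hns, hgd, hpair, hgs⟩
    · have hke : Even k := by
        obtain ⟨j, hj, hdj, hsj⟩ := self_case hs.out hs2 (mul_comm 4 s) (by omega) hg hg4s hg4 hself
        obtain ⟨h1, h2'⟩ := of_dvd_pow_add_one hk hs2 hsj
        exact even_of_dvd_two_mul h1 h2'
      rw [show topTorus F n k = q ^ n + 1 from if_neg (Nat.not_odd_iff_even.2 hke)]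
      -- `W` is the kernel of `g`
      have hWK : W = LinearMap.ker (aeval (app x) g) :=
        (Submodule.eq_of_le_of_finrank_le (hEW ▸ hE g hgs) (by
          rw [hWd, ← hgd]; exact hKdeg g hg hgapp)).symm
      let Y : Module.End F W := (app x).restrict hinvW
      have hY : ∀ (j : ℕ) (w : W), ((Y ^ j) w).1 = ((app x) ^ j) w.1 := by
        intro j
        induction j with
        | zero => intro w; rfl
        | succ j ih => intro w; rw [pow_succ, Module.End.mul_apply, ih, pow_succ]; rfl
      have H : IrredPair Qw Y n :=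
        { two := h2
          pos := hn
          dim := hWd
          nondeg := hnd
          iso := fun w => Q_app x w.1
          inv := by
            rw [← pow_succ']
            refine LinearMap.ext fun w => Subtype.ext ?_
            rw [hY]
            obtain ⟨t, ht⟩ := hgpow
            have h1 : aeval (app x) ((Polynomial.X : F[X]) ^ (q ^ n + 1) - 1) w.1 = 0 := by
              have hw : w.1 ∈ LinearMap.ker (aeval (app x) g) := hWK ▸ w.2
              rw [ht, mul_comm, map_mul, Module.End.mul_apply, LinearMap.mem_ker.1 hw, map_zero]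
            rw [map_sub, map_pow, aeval_X, map_one, LinearMap.sub_apply, sub_eq_zero] at h1
            exact h1
          irred := fun T hT => by
            rcases eq_or_ne T ⊥ with h0 | h0
            · exact Or.inl h0
            · obtain ⟨v, hv, hv0⟩ := Submodule.exists_mem_ne_zero_of_ne_bot h0
              refine Or.inr (Submodule.eq_top_of_finrank_eq (le_antisymm (Submodule.finrank_le T) ?_))
              have h1 := natDegree_le_finrank (A := app x) hg (T.map W.subtype) (by
                rintro _ ⟨w, hw, rfl⟩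
                exact ⟨Y w, hT w hw, rfl⟩) ⟨v, hv, rfl⟩ (fun h => hv0 (Subtype.ext h)) (by
                  have hw : v.1 ∈ LinearMap.ker (aeval (app x) g) := hWK ▸ v.2
                  exact LinearMap.mem_ker.1 hw)
              rw [Submodule.finrank_map_subtype_eq] at h1
              omega }
      exact H.card_value hd
    · have hko : Odd k := by
        rcases ha with ⟨hko, -⟩ | ⟨hke, hkn⟩
        · exact hko
        · exfalso
          obtain ⟨hkd, -⟩ := CfsgLib.SpecLin.PrimeGraph.order_dvd_natDegree hg (mul_comm 4 s) hg4s hg4 (by omega)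
          rw [← hk, hgd] at hkd
          have := Nat.le_of_dvd hn hkd
          omega
      rw [show topTorus F n k = q ^ n - 1 from if_pos hko]
      have hg0 := coeff_zero_of_dvd_X_pow_sub_one (show 1 ≤ 4 * s by omega) hg4s
      have hgr := CfsgLib.SpecSp.irreducible_reverse hg hg0
      have hcop := hg.coprime_iff_not_dvd.2 hns
      -- totally singular halves
      have hts : ∀ f : F[X], Irreducible f → f.coeff 0 ≠ 0 → IsCoprime f f.reverse →
          ∀ v ∈ LinearMap.ker (aeval (app x) f), Q v = 0 := by
        intro f hf hf0 hcf v hv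
        rw [LinearMap.mem_ker] at hv
        -- `f(x⁻¹)` is invertible on the kernel of `f(x)`
        have hrev : aeval (app x) f.reverse = app x ^ f.natDegree * aeval (app x⁻¹) f := by
          refine induction_with_natDegree_le
            (fun P => aeval (app x) (P.reflect f.natDegree) = app x ^ f.natDegree * aeval (app x⁻¹) P)
            f.natDegree ?_ ?_ ?_ f le_rfl
          · simp
          · intro j c _ hj
            rw [reflect_C_mul_X_pow, revAt_le hj, map_mul, map_mul, map_pow, map_pow, aeval_X, aeval_X,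
              aeval_C, aeval_C]
            have hcm : app x * app x⁻¹ = 1 := LinearMap.ext fun w => app_app_inv x w
            have hcm' : app x⁻¹ * app x = 1 := LinearMap.ext fun w => app_inv_app x w
            have hpj : app x ^ j * app x⁻¹ ^ j = 1 := by
              rw [← (show Commute (app x) (app x⁻¹) from hcm.trans hcm'.symm).mul_pow, hcm, one_pow]
            conv_rhs => rw [← Nat.sub_add_cancel hj, pow_add, mul_assoc,
              ← mul_assoc (app x ^ j), ← (Algebra.commutes c (app x ^ j)), mul_assoc, hpj, mul_one,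
              ← Algebra.commutes]
          · intro P R _ _ hP hR; rw [reflect_add, map_add, map_add, hP, hR, mul_add]
        obtain ⟨A, B, hAB⟩ := hcf
        have h1 : v = aeval (app x) f.reverse (aeval (app x) B v) := by
          have h := congrArg (fun P => aeval (app x) P v) hAB
          simp only [map_add, map_one, LinearMap.add_apply, Module.End.one_apply] at h
          rw [map_mul, Module.End.mul_apply, hv, map_zero, zero_add, mul_comm, map_mul,
            Module.End.mul_apply] at h
          exact h.symm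
        rw [hrev, Module.End.mul_apply] at h1
        set w := (app x ^ f.natDegree) (aeval (app x) B v) with hw
        have hcomm : Commute (app x ^ f.natDegree) (aeval (app x⁻¹) f) := by
          have hc : Commute (app x) (app x⁻¹) :=
            LinearMap.ext fun u => (app_app_inv x u).trans (app_inv_app x u).symm
          exact (Algebra.commute_of_mem_adjoin_singleton_of_commute
            (aeval_mem_adjoin_singleton F (app x⁻¹)) hc).pow_left _
        have h3 : v = aeval (app x⁻¹) f w := by
          rw [hw]; exact h1.trans (LinearMap.congr_fun hcomm.eq _)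
        have h4 : polar Q v v = 0 := by
          nth_rewrite 2 [h3]
          rw [← polar_aeval, hv, QuadraticMap.polar_zero_left]
        rw [polar_self'] at h4
        exact (mul_eq_zero.1 h4).resolve_left h2
      have hgr0 : g.reverse.coeff 0 ≠ 0 := by
        rw [coeff_zero_reverse]; exact leadingCoeff_ne_zero.2 hg.ne_zero
      let A : Submodule F W := (LinearMap.ker (aeval (app x) g)).comap W.subtype
      let B : Submodule F W := (LinearMap.ker (aeval (app x) g.reverse)).comap W.subtype
      have hgle : LinearMap.ker (aeval (app x) g) ≤ W := hEW ▸ hE g ((dvd_mul_right _ _).trans hgs)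
      have hrle : LinearMap.ker (aeval (app x) g.reverse) ≤ W :=
        hEW ▸ hE g.reverse ((dvd_mul_left _ _).trans hgs)
      have hA' : Module.finrank F A = Module.finrank F (LinearMap.ker (aeval (app x) g)) :=
        (Submodule.comapSubtypeEquivOfLe hgle).finrank_eq
      have hB' : Module.finrank F B = Module.finrank F (LinearMap.ker (aeval (app x) g.reverse)) :=
        (Submodule.comapSubtypeEquivOfLe hrle).finrank_eq
      have hdis := Polynomial.disjoint_ker_aeval_of_isCoprime (f := app x) hcop
      have h1 := hKdeg g hg hgapp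
      have h3 := hKdeg g.reverse hgr (hμ ▸ (dvd_mul_left _ g).trans hpair)
      rw [CfsgLib.SpecSp.natDegree_reverse_eq hg0, hgd] at h3
      rw [hgd] at h1
      have hdisAB : Disjoint A B := Submodule.disjoint_def.2 fun w ha hb =>
        Subtype.ext (Submodule.disjoint_def.1 hdis w.1 ha hb)
      have hABle : Module.finrank F A + Module.finrank F B ≤ 2 * n := by
        have h4 := Submodule.finrank_sup_add_finrank_inf_eq A B
        rw [disjoint_iff.1 hdisAB, finrank_bot, add_zero] at h4
        have h5 := Submodule.finrank_le (A ⊔ B)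
        omega
      have hcompl : IsCompl A B := Submodule.isCompl_iff_disjoint _ _ (by omega) |>.2 hdisAB
      exact card_value_split Qw hnd A B hcompl (fun a ha => hts g hg hg0 hcop a.1 ha)
        (fun b hb => hts g.reverse hgr hgr0
          (by rw [CfsgLib.SpecSp.reverse_reverse_eq hg0]; exact hcop.symm) b.1 hb)
        (m := n) (by omega) (by omega) hn hd
  obtain ⟨d, hd⟩ := FiniteField.exists_nonsquare (F := F) (fun hch => by
    have : CharP F 2 := ringChar.of_eq hch
    exact h2 CharTwo.two_eq_zero)
  have hker : S ∈ (chiPair Q d).ker := by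
    rw [← commutator_eq hQ h2 hd, hSdef]
    exact pow_mem hx s
  rw [MonoidHom.mem_ker, chiPair, MonoidHom.prod_apply, Prod.mk_eq_one] at hker
  have hkey := chi_eq_neg_one h2 S hS2 (d := (1 : F)) one_ne_zero (k := c * q ^ (n - 1))
    (hc.2.mul hqodd.pow) (by
      show Nat.card {w : W // Qw w = 1} = _
      rw [hcard one_ne_zero, hc.1, mul_assoc])
  rw [hkey] at hker
  exact absurd hker.1 (by decide)

end CfsgLib.SpecOrth
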