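import Mathlib
import Cfsg.Agent.Lib.Orth.Omega
import Cfsg.Agent.Lib.QuadFin.Gram
import Cfsg.Agent.Lib.QuadFin.OrthSum
import Cfsg.Agent.Lib.FieldExtEmbed.Quadratic
import Cfsg.Agent.Helper57Spinor

/-!
Element orders realised in odd-dimensional orthogonal groups over fields of odd order: cyclic tori
`q^a ± 1` in dimension `2 a`, unipotents in dimension `3`, orthogonal sums, and the embedding of any
non-degenerate space of dimension at most `2 n + 1`.
-/

set_option autoImplicit false
set_option linter.unusedSectionVars false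

namespace CfsgLib.SpecOrth

open Matrix QuadraticMap CfsgLib.Orth CfsgLib.FieldExtEmbed Cfsg.Agent.Spinor57

variable {F : Type*} [Field F] [Fintype F]

/-- `N` is the order of an isometry of a non-degenerate space of dimension `m`. -/
def Realised (F : Type*) [Field F] (m N : ℕ) : Prop :=
  ∃ (Q : QuadraticForm F (Fin m → F)) (g : O Q), Q.polarBilin.Nondegenerate ∧ orderOf g = N

theorem nondeg_comp {κ : Type*} {W : Type*} [AddCommGroup W] [Module F W]
    (Q : QuadraticForm F W) (hQ : ∀ w, (∀ w', polar Q w w' = 0) → w = 0)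
    (e : (κ → F) ≃ₗ[F] W) : (Q.comp e.toLinearMap).polarBilin.Nondegenerate := by
  have key : ∀ x, (∀ y, polar (Q.comp e.toLinearMap) x y = 0) → x = 0 := fun x hx => by
    refine e.injective ((hQ (e x) fun w => ?_).trans e.map_zero.symm)
    obtain ⟨y, rfl⟩ := e.surjective w
    simpa [QuadraticMap.polar, map_add] using hx y
  exact ⟨key, fun y hy => key y fun x => by rw [polar_comm]; exact hy x⟩

/-- Coordinates for a group of isometries of an abstract space. -/
theorem realised_of_isometries {W : Type*} [AddCommGroup W] [Module F W] [FiniteDimensional F W]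
    (Q : QuadraticForm F W) (hQ : ∀ w, (∀ w', polar Q w w' = 0) → w = 0) {m : ℕ}
    (hm : Module.finrank F W = m) {G : Type*} [Group G] (ρ : G →* Module.End F W)
    (hρ : Function.Injective ρ) (hiso : ∀ x w, Q (ρ x w) = Q w) (x : G) :
    Realised F m (orderOf x) := by
  let e : (Fin m → F) ≃ₗ[F] W := (Module.finBasisOfFinrankEq F W hm).equivFun.symm
  let Q' : QuadraticForm F (Fin m → F) := Q.comp e.toLinearMap
  let φ : G →* GL (Fin m) F := ((conjHom e).comp ρ).toHomUnits
  have hmem : ∀ g, φ g ∈ Cfsg.isometryGroup F ⇑Q' := fun g u _ => by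
    change Q (e (conjHom e (ρ g) *ᵥ u)) = Q (e u)
    rw [conjHom_apply, hiso]
  let ψ : G →* O Q' := φ.codRestrict _ hmem
  have hψ : Function.Injective ψ := fun a b h =>
    hρ (conjHom_injective e (congrArg (fun u : O Q' => Units.val u.1) h))
  exact ⟨Q', ψ x, nondeg_comp Q hQ e, orderOf_injective ψ hψ x⟩

/-- Moving an isometry group along an equivalence of forms. -/
theorem exists_hom_of_equiv {κ μ : Type} [Fintype κ] [DecidableEq κ] [Fintype μ] [DecidableEq μ]
    {Q : (κ → F) → F} {Q' : (μ → F) → F} (e : (μ → F) ≃ₗ[F] (κ → F)) (he : ∀ v, Q (e v) = Q' v) :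
    ∃ φ : ↥(Cfsg.isometryGroup F Q) →* ↥(Cfsg.isometryGroup F Q'), Function.Injective φ := by
  let ρ : ↥(Cfsg.isometryGroup F Q) →* Matrix μ μ F :=
    (conjHom e).comp ((Matrix.toLinAlgEquiv'.toRingEquiv.toRingHom.toMonoidHom).comp
      ((Units.coeHom (Matrix κ κ F)).comp (Cfsg.isometryGroup F Q).subtype))
  refine ⟨ρ.toHomUnits.codRestrict _ fun g u _ => ?_, fun a b h => ?_⟩
  · change Q' (ρ g *ᵥ u) = Q' u
    rw [← he, ← he]
    simp only [ρ, MonoidHom.comp_apply, conjHom_apply]
    exact g.2 _ (e u)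
  · have h1 : ρ a = ρ b := congrArg (fun x : ↥(Cfsg.isometryGroup F Q') => Units.val x.1) h
    exact Subtype.ext (Units.ext (Matrix.toLinAlgEquiv'.injective (conjHom_injective e h1)))

/-- Orthogonal sums. -/
theorem Realised.sum {m₁ m₂ N₁ N₂ : ℕ} (h₁ : Realised F m₁ N₁) (h₂ : Realised F m₂ N₂) :
    Realised F (m₁ + m₂) (Nat.lcm N₁ N₂) := by
  obtain ⟨Q₁, g₁, n₁, rfl⟩ := h₁
  obtain ⟨Q₂, g₂, n₂, rfl⟩ := h₂
  let ρ : ↥(O Q₁) × ↥(O Q₂) →* Module.End F ((Fin m₁ → F) × (Fin m₂ → F)) :=
    { toFun := fun p => (app p.1).prodMap (app p.2)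
      map_one' := LinearMap.ext fun v => by simp
      map_mul' := fun p p' => LinearMap.ext fun v => by simp }
  have hρ : Function.Injective ρ := fun p p' h => by
    refine Prod.ext (ext_app fun v => ?_) (ext_app fun v => ?_)
    · simpa [ρ] using congrArg Prod.fst (LinearMap.congr_fun h (v, 0))
    · simpa [ρ] using congrArg Prod.snd (LinearMap.congr_fun h (0, v))
  rw [← Prod.orderOf_mk]
  refine realised_of_isometries (QuadraticMap.prod Q₁ Q₂) (fun w hw => ?_) (by simp) ρ hρ
    (fun p w => by simp [ρ]) (g₁, g₂)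
  refine Prod.ext (n₁.1 w.1 fun y => ?_) (n₂.1 w.2 fun y => ?_)
  · simpa [QuadraticMap.polar] using hw (y, 0)
  · simpa [QuadraticMap.polar] using hw (0, y)

theorem realised_trivial (h2 : (2 : F) ≠ 0) (m : ℕ) : Realised F m 1 := by
  refine ⟨QuadraticMap.weightedSumSquares F (fun _ : Fin m => (1 : F)), 1, ?_, orderOf_one⟩
  have key : ∀ x, (∀ y, polar (QuadraticMap.weightedSumSquares F (fun _ : Fin m => (1 : F))) x y = 0) →
      x = 0 := fun x hx => funext fun i => by
    have h := hx (Pi.single i 1)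
    simp [QuadraticMap.polar, QuadraticMap.weightedSumSquares_apply, add_mul, mul_add,
      Finset.sum_add_distrib, Pi.single_apply] at h
    have h' : (2 : F) * x i = 0 := by linear_combination h
    exact (mul_eq_zero.1 h').resolve_left h2
  exact ⟨key, fun y hy => key y fun x => by rw [polar_comm]; exact hy x⟩

theorem exists_units_orderOf {K : Type*} [Field K] [Finite K] {N : ℕ} (h : N ∣ Nat.card Kˣ) :
    ∃ u : Kˣ, orderOf u = N := by
  obtain ⟨g, hg⟩ := IsCyclic.exists_generator (α := Kˣ)
  refine ⟨g ^ (orderOf g / N), orderOf_pow_orderOf_div (orderOf_pos g).ne' ?_⟩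
  rwa [orderOf_eq_card_of_forall_mem_zpowers hg]

/-- The split torus. -/
theorem realised_torus_minus {a : ℕ} (ha : 1 ≤ a) :
    Realised F (2 * a) (Fintype.card F ^ a - 1) := by
  obtain ⟨p, hp⟩ := CharP.exists F
  have : Fact p.Prime := ⟨CharP.char_is_prime F p⟩
  have : NeZero a := ⟨by omega⟩
  let K := FiniteField.Extension F p a
  have : Finite K := Module.finite_of_finite F
  have hrank : Module.finrank F K = a := FiniteField.finrank_extension F p a
  let B : LinearMap.BilinMap F (K × K) F :=
    LinearMap.mk₂ F (fun x y => Algebra.trace F K (x.1 * y.2))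
      (fun x x' y => by simp [add_mul]) (fun c x y => by simp)
      (fun x y y' => by simp [mul_add]) (fun c x y => by simp)
  obtain ⟨u, hu⟩ := exists_units_orderOf (K := K) (N := Fintype.card F ^ a - 1) (by
    rw [Nat.card_units, FiniteField.natCard_extension, Nat.card_eq_fintype_card])
  let ρ : Kˣ →* Module.End F (K × K) :=
    { toFun := fun b =>
        (LinearMap.mulLeft F (b : K)).prodMap (LinearMap.mulLeft F ((b⁻¹ : Kˣ) : K))
      map_one' := LinearMap.ext fun v => by simp
      map_mul' := fun b c => LinearMap.ext fun v => by simp [mul_left_comm] }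
  rw [← hu]
  refine realised_of_isometries (LinearMap.BilinMap.toQuadraticMap B) (fun w hw => ?_)
    (by rw [Module.finrank_prod, hrank, two_mul]) ρ (fun b c h => ?_) (fun b w => ?_) u
  · refine Prod.ext ((traceForm_nondegenerate F K).1 w.1 fun z => ?_)
      ((traceForm_nondegenerate F K).1 w.2 fun z => ?_)
    · simpa [B, QuadraticMap.polar, add_mul, mul_add, Algebra.traceForm_apply] using hw (0, z)
    · simpa [B, QuadraticMap.polar, add_mul, mul_add, Algebra.traceForm_apply, mul_comm z] using
        hw (z, 0)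
  · exact Units.ext (by simpa [ρ] using congrArg Prod.fst (LinearMap.congr_fun h (1, 1)))
  · simp only [ρ, B, MonoidHom.coe_mk, OneHom.coe_mk, LinearMap.prodMap_apply,
      LinearMap.mulLeft_apply, LinearMap.BilinMap.toQuadraticMap_apply, LinearMap.mk₂_apply]
    rw [mul_mul_mul_comm, Units.mul_inv, one_mul]

/-- The elliptic torus. -/
theorem realised_torus_plus (h2 : (2 : F) ≠ 0) {a : ℕ} (ha : 1 ≤ a) :
    Realised F (2 * a) (Fintype.card F ^ a + 1) := by
  obtain ⟨p, hp⟩ := CharP.exists F
  have : Fact p.Prime := ⟨CharP.char_is_prime F p⟩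
  have : NeZero (2 * a) := ⟨by omega⟩
  let K := FiniteField.Extension F p (2 * a)
  have : Finite K := Module.finite_of_finite F
  have hrank : Module.finrank F K = 2 * a := FiniteField.finrank_extension F p (2 * a)
  have hKcard : Nat.card K = (Fintype.card F ^ a) ^ 2 := by
    rw [FiniteField.natCard_extension, Nat.card_eq_fintype_card, ← pow_mul, mul_comm]
  let σ : K ≃ₐ[F] K := FiniteField.Extension.frob F p (2 * a) ^ a
  have hσ : ∀ x, σ x = x ^ Fintype.card F ^ a := fun x => by
    rw [FiniteField.Extension.frob_iterate_apply, Nat.card_eq_fintype_card]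
  have hσσ : ∀ x, σ (σ x) = x := fun x => by
    have : Fintype K := Fintype.ofFinite K
    rw [hσ, hσ, ← pow_mul, ← pow_two, ← hKcard, Nat.card_eq_fintype_card, FiniteField.pow_card]
  let B : LinearMap.BilinMap F K F :=
    LinearMap.mk₂ F (fun x y => Algebra.trace F K (x * σ y))
      (fun x x' y => by simp [add_mul]) (fun c x y => by simp)
      (fun x y y' => by simp [mul_add]) (fun c x y => by simp)
  obtain ⟨u, hu⟩ := exists_units_orderOf (K := K) (N := Fintype.card F ^ a + 1) (by
    rw [Nat.card_units, hKcard, ← one_pow 2, Nat.sq_sub_sq, one_pow]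
    exact dvd_mul_right _ _)
  have hpow : ∀ b ∈ Subgroup.zpowers u, ((b : Kˣ) : K) * σ (b : Kˣ) = 1 := by
    intro b hb
    obtain ⟨j, rfl⟩ := mem_powers_iff_mem_zpowers.2 hb
    change ((u ^ j : Kˣ) : K) * σ ((u ^ j : Kˣ) : K) = 1
    have h1 : u ^ (Fintype.card F ^ a + 1) = 1 := by rw [← hu]; exact pow_orderOf_eq_one u
    rw [hσ, ← pow_succ', ← Units.val_pow_eq_pow_val, ← pow_mul, mul_comm j, pow_mul, h1, one_pow,
      Units.val_one]
  let ρ : Subgroup.zpowers u →* Module.End F K :=
    { toFun := fun b => LinearMap.mulLeft F ((b : Kˣ) : K)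
      map_one' := LinearMap.ext fun v => by simp
      map_mul' := fun b c => LinearMap.ext fun v => by simp }
  have hord : orderOf (⟨u, Subgroup.mem_zpowers u⟩ : Subgroup.zpowers u) = orderOf u :=
    Subgroup.orderOf_mk _ _
  rw [← hu, ← hord]
  refine realised_of_isometries (LinearMap.BilinMap.toQuadraticMap B) (fun w hw => ?_) hrank ρ
    (fun b c h => ?_) (fun b w => ?_) _
  · refine (traceForm_nondegenerate F K).1 w fun z => ?_
    have h1 := hw (σ z)
    rw [LinearMap.BilinMap.polar_toQuadraticMap] at h1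
    simp only [B, LinearMap.mk₂_apply, hσσ] at h1
    have h3 : Algebra.trace F K (σ z * σ w) = Algebra.trace F K (w * z) := by
      rw [← map_mul, Algebra.trace_eq_of_algEquiv σ, mul_comm z w]
    rw [h3] at h1
    rw [Algebra.traceForm_apply]
    have h4 : (2 : F) * Algebra.trace F K (w * z) = 0 := by linear_combination h1
    exact (mul_eq_zero.1 h4).resolve_left h2
  · exact Subtype.ext (Units.ext (by simpa [ρ] using LinearMap.congr_fun h 1))
  · simp only [ρ, MonoidHom.coe_mk, OneHom.coe_mk, LinearMap.mulLeft_apply,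
      LinearMap.BilinMap.toQuadraticMap_apply, B, LinearMap.mk₂_apply, map_mul]
    rw [mul_mul_mul_comm, hpow _ b.2, one_mul]

/-- A unipotent element of order `p` in dimension three. -/
theorem realised_unipotent (h2 : (2 : F) ≠ 0) (p : ℕ) [hp : Fact p.Prime] [CharP F p] :
    Realised F 3 p := by
  let B : LinearMap.BilinMap F (F × F × F) F :=
    LinearMap.mk₂ F (fun x y => x.1 * y.1 + x.2.1 * y.2.2)
      (fun x x' y => by simp; ring) (fun c x y => by simp; ring)
      (fun x y y' => by simp; ring) (fun c x y => by simp; ring)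
  let f : F → Module.End F (F × F × F) := fun t =>
    { toFun := fun v => (v.1 + t * v.2.2, v.2.1 - 2 * t * v.1 - t ^ 2 * v.2.2, v.2.2)
      map_add' := fun u v => by simp; constructor <;> ring
      map_smul' := fun c v => by simp; constructor <;> ring }
  let ρ : Multiplicative F →* Module.End F (F × F × F) :=
    { toFun := fun t => f t.toAdd
      map_one' := LinearMap.ext fun v => by simp [f]
      map_mul' := fun s t => LinearMap.ext fun v => by
        simp [f]; constructor <;> ring }
  have hord : orderOf (Multiplicative.ofAdd (1 : F)) = p := by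
    rw [orderOf_ofAdd_eq_addOrderOf, CharP.eq F (CharP.addOrderOf_one F) hp']
  rw [← hord]
  refine realised_of_isometries (LinearMap.BilinMap.toQuadraticMap B) (fun w hw => ?_) (by simp) ρ
    (fun s t h => ?_) (fun s w => ?_) _
  · have e1 := hw (1, 0, 0)
    have e2 := hw (0, 1, 0)
    have e3 := hw (0, 0, 1)
    simp [B, LinearMap.BilinMap.polar_toQuadraticMap] at e1 e2 e3
    refine Prod.ext ?_ (Prod.ext ?_ ?_)
    · have : (2 : F) * w.1 = 0 := by linear_combination e1
      exact (mul_eq_zero.1 this).resolve_left h2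
    · simpa using e3
    · simpa using e2
  · simpa [ρ, f] using congrArg Prod.fst (LinearMap.congr_fun h (0, 0, 1))
  · simp [ρ, f, B]; ring
where
  hp' : CharP F p := inferInstance

/-- Spaces of dimension at most `2 n + 1` embed, up to a scalar, in the standard odd space. -/
theorem Realised.exists_odd (h2 : (2 : F) ≠ 0) {m N n : ℕ} (h : Realised F m N)
    (hm : m ≤ 2 * n + 1) : ∃ g : O (qOdd n F), orderOf g = N := by
  have h' : Realised F (2 * n + 1) N := by
    have := h.sum (realised_trivial h2 (2 * n + 1 - m))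
    rwa [Nat.lcm_one_right, Nat.add_sub_cancel' hm] at this
  obtain ⟨Q, g, hQ, rfl⟩ := h'
  let σ : Unit ⊕ (Fin n ⊕ Fin n) ≃ Fin (2 * n + 1) := Fintype.equivFinOfCardEq (by simp; omega)
  let e₀ : (Fin (2 * n + 1) → F) ≃ₗ[F] (Unit ⊕ (Fin n ⊕ Fin n) → F) := LinearEquiv.funCongrLeft F F σ
  let S : QuadraticForm F (Fin (2 * n + 1) → F) := (qOdd n F).comp e₀.toLinearMap
  have hS : S.polarBilin.Nondegenerate :=
    nondeg_comp (qOdd n F) (qOdd_nondegenerate h2).1 e₀
  set d := (CfsgLib.QuadFin.gram ⇑Q).det * (CfsgLib.QuadFin.gram ⇑S).det with hd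
  have hd0 : d ≠ 0 := mul_ne_zero (CfsgLib.QuadFin.gram_det_ne_zero Q hQ)
    (CfsgLib.QuadFin.gram_det_ne_zero S hS)
  have hdQ : (d • Q).polarBilin.Nondegenerate := by
    have key : ∀ x, (∀ y, polar (d • Q) x y = 0) → x = 0 := fun x hx => hQ.1 x fun y => by
      have := hx y
      rw [FunLike.coe_smul, QuadraticMap.polar_smul] at this
      exact (mul_eq_zero.1 this).resolve_left hd0
    exact ⟨key, fun y hy => key y fun x => by rw [polar_comm]; exact hy x⟩
  obtain ⟨φ, hφ⟩ := (CfsgLib.QuadFin.equiv_iff_isSquare h2 (d • Q) S hdQ hS).2 (by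
    rw [show (⇑(d • Q) : (Fin (2 * n + 1) → F) → F) = fun v => d * Q v from rfl,
      CfsgLib.QuadFin.gram_det_smul, Fintype.card_fin, mul_assoc, ← hd, ← pow_succ]
    exact ⟨d ^ (n + 1), by ring⟩)
  -- isometries of `Q` are isometries of its multiples
  have hle : ∀ x : GL (Fin (2 * n + 1)) F, x ∈ Cfsg.isometryGroup F ⇑Q ↔
      x ∈ Cfsg.isometryGroup F (fun v => d * Q v) := fun x =>
    ⟨fun hx u w => congrArg (d * ·) (hx u w), fun hx u w => mul_left_cancel₀ hd0 (hx u w)⟩
  let ι : O Q →* ↥(Cfsg.isometryGroup F (fun v => d * Q v)) :=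
    (O Q).subtype.codRestrict _ fun x => (hle x.1).1 x.2
  have hι : Function.Injective ι := fun a b hab =>
    Subtype.ext (congrArg (fun y : ↥(Cfsg.isometryGroup F (fun v => d * Q v)) => y.1) hab)
  obtain ⟨θ, hθ⟩ := exists_hom_of_equiv (Q := fun v => d * Q v) (Q' := ⇑(qOdd n F))
    (φ.trans e₀).symm (fun v => by
      have := hφ ((φ.trans e₀).symm v)
      rw [show S (φ ((φ.trans e₀).symm v)) = qOdd n F v from
        congrArg (⇑(qOdd n F)) ((φ.trans e₀).apply_symm_apply v)] at this
      exact this.symm)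
  exact ⟨θ (ι g), by rw [orderOf_injective θ hθ, orderOf_injective ι hι]⟩

end CfsgLib.SpecOrth
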