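import Mathlib
import Cfsg.Agent.Lib.SpecOrth.Tori
import Cfsg.Agent.Lib.SpecOrth.SignPair
import Cfsg.Agent.Lib.SpecSp.Bound

/-!
`Ω_(2n+1)(q)` and `PSp_2n(q)`, `q` odd, have the same prime graph.
-/

set_option autoImplicit false
set_option linter.unusedSectionVars false

namespace CfsgLib.SpecOrth

open CfsgLib.Orth CfsgLib.SpecSp.PrimeGraph Cfsg.Agent.Spinor57

variable {F : Type*} [Field F] [Fintype F] {n : ℕ}

local notation "q" => Fintype.card F
local notation "Sp[" k "]" => Matrix.symplecticGroup (Fin k) F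

/-- An element order of `Ω`. -/
def MemOmega (F : Type*) [Field F] (n m : ℕ) : Prop :=
  ∃ x : O (qOdd n F), x ∈ commutator (O (qOdd n F)) ∧ orderOf x = m

/-- An element order of `PSp`. -/
def MemPSp (F : Type*) [Field F] [Fintype F] (n m : ℕ) : Prop :=
  m ∈ Set.range (orderOf : Cfsg.PSp n F → ℕ)

/-- An order of an element with a small minimal polynomial. -/
def Small (F : Type*) [Field F] (n m : ℕ) : Prop :=
  ∃ N, 1 ≤ N ∧ ∃ M : Matrix.symplecticGroup (Fin N) F,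
    orderOf M = m ∧ (minpoly F M.1).natDegree ≤ 2 * n + 1

/-- Both groups have elements of order divisible by `N`. -/
def Wit (F : Type*) [Field F] (n N : ℕ) : Prop :=
  (∃ M : Matrix.symplecticGroup (Fin n) F, N ∣ orderOf M) ∧ ∃ g : O (qOdd n F), N ∣ orderOf g

theorem sq_mem_commutator (h2 : (2 : F) ≠ 0) (y : O (qOdd n F)) :
    y * y ∈ commutator (O (qOdd n F)) := by
  classical
  obtain ⟨d, hd⟩ := FiniteField.exists_nonsquare (F := F) (fun hch => by
    have : CharP F 2 := ringChar.of_eq hch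
    exact h2 CharTwo.two_eq_zero)
  rw [commutator_eq (qOdd_nondegenerate h2) h2 hd, MonoidHom.mem_ker, map_mul]
  exact Prod.ext (Int.units_mul_self _) (Int.units_mul_self _)

theorem dvd_orderOf_mk {m : ℕ} (M : Sp[n]) (h : 2 * m ∣ orderOf M) :
    m ∣ orderOf (QuotientGroup.mk M : Cfsg.PSp n F) :=
  (Nat.mul_dvd_mul_iff_left two_pos).1 (h.trans (CfsgLib.SpecSp.orderOf_dvd_two_mul M))

theorem Wit.mem_odd (h2 : (2 : F) ≠ 0) {m : ℕ} (hm : Odd m) (h : Wit F n m) :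
    MemOmega F n m ∧ MemPSp F n m := by
  obtain ⟨⟨M, hM⟩, g, hg⟩ := h
  refine ⟨?_, ?_⟩
  · obtain ⟨x, hx⟩ := CfsgLib.SpecLin.exists_orderOf_eq_of_dvd (orderOf_pos g).ne' hg
    obtain ⟨c, hc⟩ := hm
    refine ⟨x, ?_, hx⟩
    have : x = x ^ (c + 1) * x ^ (c + 1) := by
      rw [← pow_add, show c + 1 + (c + 1) = orderOf x + 1 by omega, pow_succ, pow_orderOf_eq_one,
        one_mul]
    rw [this]
    exact sq_mem_commutator h2 _
  · exact CfsgLib.SpecLin.exists_orderOf_eq_of_dvd (orderOf_pos _).ne'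
      ((Nat.coprime_two_right.2 hm).dvd_mul_left.1 (hM.trans (CfsgLib.SpecSp.orderOf_dvd_two_mul M)))

theorem Wit.mem_two (h2 : (2 : F) ≠ 0) {m : ℕ} (h : Wit F n (2 * m)) :
    MemOmega F n m ∧ MemPSp F n m := by
  obtain ⟨⟨M, hM⟩, g, hg⟩ := h
  refine ⟨?_, ?_⟩
  · obtain ⟨x, hx⟩ := CfsgLib.SpecLin.exists_orderOf_eq_of_dvd (orderOf_pos g).ne' hg
    refine ⟨x * x, sq_mem_commutator h2 x, ?_⟩
    rw [← pow_two, orderOf_pow_of_dvd two_ne_zero (hx ▸ dvd_mul_right 2 m), hx,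
      Nat.mul_div_cancel_left _ two_pos]
  · exact CfsgLib.SpecLin.exists_orderOf_eq_of_dvd (orderOf_pos _).ne' (dvd_orderOf_mk M hM)

theorem MemOmega.small (h2 : (2 : F) ≠ 0) {m d : ℕ} (h : MemOmega F n m) (hd : d ∣ m) :
    Small F n d := by
  obtain ⟨x, -, hx⟩ := h
  obtain ⟨y, hy⟩ := CfsgLib.SpecLin.exists_orderOf_eq_of_dvd (orderOf_pos x).ne' (hx.symm ▸ hd)
  obtain ⟨M, hM, -, hdeg⟩ := exists_sp_of_odd h2 y
  exact ⟨2 * n + 1, by omega, M, hM.trans hy, hdeg⟩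

theorem MemPSp.small (hn : 1 ≤ n) {m d : ℕ} (h : MemPSp F n m) (hd : d ∣ m) : Small F n d := by
  obtain ⟨g, rfl⟩ := h
  obtain ⟨M₀, rfl⟩ := QuotientGroup.mk_surjective g
  obtain ⟨M, hM⟩ := CfsgLib.SpecLin.exists_orderOf_eq_of_dvd (orderOf_pos M₀).ne'
    (hd.trans (orderOf_map_dvd (QuotientGroup.mk' _) M₀))
  exact ⟨n, hn, M, hM, (natDegree_minpoly_le M).trans (by omega)⟩

theorem exists_sp_torus {h : ℕ} (hh : 1 ≤ h) (k : ℕ) :
    ∃ T : Sp[h], orderOf T = topTorus F h k := by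
  unfold topTorus
  split_ifs
  · exact CfsgLib.SpecSp.exists_torus_minus hh
  · exact CfsgLib.SpecSp.exists_torus_plus' hh

theorem realised_torus (h2 : (2 : F) ≠ 0) {h : ℕ} (hh : 1 ≤ h) (k : ℕ) :
    Realised F (2 * h) (topTorus F h k) := by
  unfold topTorus
  split_ifs
  · exact realised_torus_minus hh
  · exact realised_torus_plus h2 hh

theorem wit_one (h2 : (2 : F) ≠ 0) {h k N : ℕ} (hh : 1 ≤ h) (hhn : h ≤ n)
    (hN : N ∣ topTorus F h k) : Wit F n N := by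
  obtain ⟨T, hT⟩ := exists_sp_torus (F := F) hh k
  obtain ⟨M, hM⟩ := exists_pad hhn T
  obtain ⟨g, hg⟩ := (realised_torus h2 hh k).exists_odd (n := n) h2 (by omega)
  exact ⟨⟨M, by rw [hM, hT]; exact hN⟩, g, by rw [hg]; exact hN⟩

theorem wit_two (h2 : (2 : F) ≠ 0) {a b k l N : ℕ} (ha : 1 ≤ a) (hb : 1 ≤ b) (hab : a + b ≤ n)
    (hN : N ∣ Nat.lcm (topTorus F a k) (topTorus F b l)) : Wit F n N := by
  obtain ⟨T, hT⟩ := exists_sp_torus (F := F) ha k
  obtain ⟨U, hU⟩ := exists_sp_torus (F := F) hb l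
  obtain ⟨M, hM⟩ := exists_sum hab T U
  obtain ⟨g, hg⟩ := ((realised_torus h2 ha k).sum (realised_torus h2 hb l)).exists_odd (n := n) h2
    (by omega)
  exact ⟨⟨M, by rw [hM, hT, hU]; exact hN⟩, g, by rw [hg]; exact hN⟩

theorem wit_unip (h2 : (2 : F) ≠ 0) (p : ℕ) [Fact p.Prime] [CharP F p] {a k N : ℕ} (ha : 1 ≤ a)
    (han : a < n) (hN : N ∣ Nat.lcm (topTorus F a k) p) : Wit F n N := by
  obtain ⟨T, hT⟩ := exists_sp_torus (F := F) ha k
  obtain ⟨U, hU, -⟩ := CfsgLib.SpecSp.exists_regUnip_order (F := F) p (k := 1) (c := 1) le_rfl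
    (Or.inr (by norm_num))
  obtain ⟨M, hM⟩ := exists_sum (show a + 1 ≤ n by omega) T U
  obtain ⟨g, hg⟩ := ((realised_torus h2 ha k).sum (realised_unipotent h2 p)).exists_odd (n := n) h2
    (by omega)
  refine ⟨⟨M, hN.trans ?_⟩, g, by rw [hg]; exact hN⟩
  rw [hM, hT]
  rw [pow_one] at hU
  exact Nat.lcm_dvd (Nat.dvd_lcm_left _ _) (hU.trans (Nat.dvd_lcm_right _ _))

theorem four_dvd_torus_one (h2 : (2 : F) ≠ 0) : ∃ k, 4 ∣ topTorus F 1 k := by
  have h := CfsgLib.SpecSp.odd_card_of_two_ne h2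
  rcases Nat.lt_or_ge (q % 4) 2 with hq | hq
  · exact ⟨1, by unfold topTorus; rw [if_pos odd_one, pow_one]; omega⟩
  · exact ⟨0, by unfold topTorus; rw [if_neg (by decide), pow_one]; omega⟩

section prime

variable {r : ℕ} [hr : Fact r.Prime]

/-- `η` of the order of `q` modulo `r`. -/
noncomputable def eta (F : Type*) [Fintype F] (r : ℕ) : ℕ :=
  let k := orderOf ((Fintype.card F : ℕ) : ZMod r)
  if Odd k then k else k / 2

theorem isEta_eta (r : ℕ) : IsEta (orderOf ((q : ℕ) : ZMod r)) (eta F r) := by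
  unfold eta
  simp only
  split_ifs with h
  · exact Or.inl ⟨h, rfl⟩
  · obtain ⟨c, hc⟩ := Nat.not_odd_iff_even.1 h
    exact Or.inr ⟨Nat.not_odd_iff_even.1 h, by omega⟩

theorem Small.eta_le (hr2 : r ≠ 2) (hr0 : (r : F) ≠ 0) (h : Small F n r) :
    eta F r ≤ n ∧ 1 ≤ eta F r ∧ orderOf ((q : ℕ) : ZMod r) ≠ 0 := by
  obtain ⟨N, hN, M, hM, hdeg⟩ := h
  obtain ⟨ha, hk⟩ := eta_le_of_order hN hdeg hr2 hr0 hM rfl (isEta_eta (F := F) r)
  refine ⟨ha, ?_, hk⟩
  rcases isEta_eta (F := F) r with ⟨-, h⟩ | ⟨-, h⟩ <;> omega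

theorem dvd_topTorus (hk : orderOf ((q : ℕ) : ZMod r) ≠ 0) {t : ℕ} (ht : Odd t) :
    r ∣ topTorus F (eta F r * t) (orderOf ((q : ℕ) : ZMod r)) := by
  unfold topTorus
  rcases dvd_torus rfl hk (isEta_eta (F := F) r) ht with ⟨ho, hd⟩ | ⟨he, hd⟩
  · rw [if_pos ho]; exact hd
  · rw [if_neg (Nat.not_odd_iff_even.2 he)]; exact hd

/-- An odd prime and the characteristic. -/
theorem same_char (h2 : (2 : F) ≠ 0) (hn : 1 ≤ n) (p : ℕ) [hp : Fact p.Prime] [CharP F p]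
    (hr2 : r ≠ 2) (hrp : r ≠ p) :
    MemOmega F n (r * p) ↔ MemPSp F n (r * p) := by
  have hp2 : p ≠ 2 := by rintro rfl; exact h2 (by exact_mod_cast CharP.cast_eq_zero F 2)
  have hr0 : (r : F) ≠ 0 := fun h => hrp
    ((Nat.prime_dvd_prime_iff_eq hp.out hr.out).1 ((CharP.cast_eq_zero_iff F p r).1 h)).symm
  suffices h : Small F n (r * p) → Small F n r → MemOmega F n (r * p) ∧ MemPSp F n (r * p) from
    ⟨fun hx => (h (hx.small h2 dvd_rfl) (hx.small h2 (dvd_mul_right r p))).2,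
      fun hx => (h (hx.small hn dvd_rfl) (hx.small hn (dvd_mul_right r p))).1⟩
  intro hrp' hr'
  obtain ⟨-, ha1, hk⟩ := hr'.eta_le hr2 hr0
  obtain ⟨N, hN, M, hM, hdeg⟩ := hrp'
  have han := not_adjacent_char p hN hn hdeg hr2 hr0 hM rfl (isEta_eta (F := F) r)
  refine (wit_unip h2 p ha1 han (k := orderOf ((q : ℕ) : ZMod r)) ?_).mem_odd h2
    ((hr.out.odd_of_ne_two hr2).mul (hp.out.odd_of_ne_two hp2))
  exact ((Nat.coprime_primes hr.out hp.out).2 hrp).mul_dvd_of_dvd_of_dvd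
    ((by simpa using dvd_topTorus (F := F) hk odd_one : r ∣ _).trans (Nat.dvd_lcm_left _ _))
    (Nat.dvd_lcm_right _ _)

/-- An odd prime and `2`. -/
theorem same_two (h2 : (2 : F) ≠ 0) (hn : 1 ≤ n) (hr2 : r ≠ 2) (hr0 : (r : F) ≠ 0) :
    MemOmega F n (2 * r) ↔ MemPSp F n (2 * r) := by
  classical
  set k := orderOf ((q : ℕ) : ZMod r) with hk'
  have hodd := CfsgLib.SpecSp.odd_card_of_two_ne h2
  have hr1 := hr.out.two_le
  have hro : Odd r := hr.out.odd_of_ne_two hr2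
  by_cases hsmall : Small F n r
  swap
  · exact iff_of_false (fun h => hsmall (h.small h2 (dvd_mul_left r 2)))
      (fun h => hsmall (h.small hn (dvd_mul_left r 2)))
  obtain ⟨ha, ha1, hk⟩ := hsmall.eta_le hr2 hr0
  have hdT : r ∣ topTorus F (eta F r) k := by simpa using dvd_topTorus (F := F) hk odd_one
  by_cases han : eta F r < n
  · obtain ⟨k₂, hk₂⟩ := four_dvd_torus_one h2
    have h := (wit_two (n := n) h2 ha1 le_rfl (by omega) (k := k) (l := k₂) (N := 2 * (2 * r))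
      (by
        rw [show 2 * (2 * r) = r * 4 by ring]
        refine Nat.Coprime.mul_dvd_of_dvd_of_dvd ?_ (hdT.trans (Nat.dvd_lcm_left _ _))
          (hk₂.trans (Nat.dvd_lcm_right _ _))
        exact Nat.Coprime.pow_right 2 (Nat.coprime_two_right.2 hro))).mem_two h2
    exact iff_of_true h.1 h.2
  have hna : eta F r = n := by omega
  rw [hna] at hdT
  have hT2 : 2 ∣ topTorus F n k := by
    obtain ⟨c, hc⟩ : Odd (q ^ n) := (Nat.odd_iff.2 hodd).pow
    unfold topTorus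
    split_ifs <;> omega
  by_cases hev : 2 ∣ topTorus F n k / 2
  · obtain ⟨c, hc⟩ := hT2
    have h := (wit_one (n := n) h2 hn le_rfl (k := k) (N := 2 * (2 * r)) (by
      rw [show 2 * (2 * r) = r * 4 by ring]
      refine Nat.Coprime.mul_dvd_of_dvd_of_dvd (Nat.Coprime.pow_right 2 (Nat.coprime_two_right.2 hro))
        hdT ?_
      rw [hc, Nat.mul_div_cancel_left _ two_pos] at hev
      rw [hc, show 4 = 2 * 2 from rfl]
      exact Nat.mul_dvd_mul_left 2 hev)).mem_two h2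
    exact iff_of_true h.1 h.2
  have hE : IsEta k n := hna ▸ isEta_eta (F := F) r
  refine iff_of_false (fun ⟨x, hx, hxo⟩ => no_order_two h2 hn hr2 hr0 hk' hE hev x hx hxo) ?_
  rintro ⟨g₀, hg₀⟩
  obtain ⟨X, rfl⟩ := QuotientGroup.mk_surjective g₀
  obtain ⟨ν₀, hν₀, hX⟩ := CfsgLib.SpecSp.exists_sign_pow X
  rw [hg₀] at hX
  have : Nonempty (Fin n) := ⟨⟨0, hn⟩⟩
  have h4r0 : ((4 * r : ℕ) : F) ≠ 0 := by
    rw [Nat.cast_mul, show ((4 : ℕ) : F) = 2 * 2 by norm_num]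
    exact mul_ne_zero (mul_ne_zero h2 h2) hr0
  have hsq : Squarefree (Polynomial.X ^ (4 * r) - Polynomial.C (1 : F)) :=
    (Polynomial.separable_X_pow_sub_C (1 : F) h4r0 one_ne_zero).squarefree
  rw [map_one] at hsq
  have hd : minpoly F X.1 ∣ Polynomial.X ^ (4 * r) - 1 := by
    refine minpoly_dvd_X_pow_sub_one (orderOf_dvd_of_pow_eq_one (Subtype.ext ?_))
    rw [SubmonoidClass.coe_pow, show 4 * r = 2 * r * 2 by ring, pow_mul, hX, _root_.smul_pow,
      pow_two, hν₀, one_smul, one_pow]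
    rfl
  have hμ0 : minpoly F X.1 ≠ 0 := minpoly.ne_zero (Matrix.isIntegral X.1)
  have hnot : ¬ minpoly F X.1 ∣ Polynomial.X ^ 4 - 1 := not_dvd_sub_one fun h => by
    have h' : orderOf (QuotientGroup.mk X : Cfsg.PSp n F) ∣ 4 :=
      (orderOf_map_dvd (QuotientGroup.mk' _) X).trans h
    rw [hg₀] at h'
    have : r ∣ 2 ^ 2 := (dvd_mul_left r 2).trans h'
    exact hr2 ((Nat.prime_dvd_prime_iff_eq hr.out Nat.prime_two).1 (hr.out.dvd_of_dvd_pow this))
  obtain ⟨g, hg, hgμ, hg4⟩ := CfsgLib.SpecLin.PrimeGraph.exists_irreducible_not_dvd hμ0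
    (hsq.squarefree_of_dvd hd) hnot
  obtain ⟨ν, hν, hcase⟩ := top_factor hn hn ((natDegree_minpoly_le X).trans (by omega)) hr2 hk' hE hev
    hT2 hg hgμ (hgμ.trans hd) hg4
  have hμν : minpoly F X.1 ∣ Polynomial.X ^ r - Polynomial.C ν := by
    rcases hcase with ⟨-, hgd, -, hdv⟩ | ⟨-, hgd, hpair, hdv⟩
    · exact (Polynomial.associated_of_dvd_of_natDegree_le hgμ hμ0
        (hgd ▸ natDegree_minpoly_le X)).symm.dvd.trans hdv
    · refine (Polynomial.associated_of_dvd_of_natDegree_le hpair hμ0 ?_).symm.dvd.trans hdv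
      have hg0 := coeff_zero_of_dvd_X_pow_sub_one (show 1 ≤ 4 * r by omega) (hgμ.trans hd)
      rw [Polynomial.natDegree_mul hg.ne_zero
        (CfsgLib.SpecSp.irreducible_reverse hg hg0).ne_zero,
        CfsgLib.SpecSp.natDegree_reverse_eq hg0, hgd, ← two_mul]
      exact natDegree_minpoly_le X
  obtain ⟨t, ht⟩ := hμν
  have h' := congrArg (Polynomial.aeval X.1) ht
  rw [map_mul, minpoly.aeval, zero_mul, map_sub, map_pow, Polynomial.aeval_X, Polynomial.aeval_C,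
    sub_eq_zero, Algebra.algebraMap_eq_smul_one] at h'
  have h3 := CfsgLib.SpecSp.orderOf_mk_dvd_of_pow_eq_sign hν h'
  rw [hg₀] at h3
  have := Nat.le_of_dvd hr.out.pos h3
  omega

end prime

/-- Two odd primes. -/
theorem same_odd (h2 : (2 : F) ≠ 0) (hn : 1 ≤ n) {r s : ℕ} [hr : Fact r.Prime] [hs : Fact s.Prime]
    (hr2 : r ≠ 2) (hs2 : s ≠ 2) (hr0 : (r : F) ≠ 0) (hs0 : (s : F) ≠ 0) (hrs : r ≠ s) :
    MemOmega F n (r * s) ↔ MemPSp F n (r * s) := by
  wlog hle : eta F r ≤ eta F s generalizing r s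
  · rw [mul_comm]; exact this hs2 hr2 hs0 hr0 hrs.symm (Nat.le_of_not_le hle)
  suffices h : Small F n (r * s) → Small F n r → Small F n s →
      MemOmega F n (r * s) ∧ MemPSp F n (r * s) from
    ⟨fun hx => (h (hx.small h2 dvd_rfl) (hx.small h2 (dvd_mul_right r s))
        (hx.small h2 (dvd_mul_left s r))).2,
      fun hx => (h (hx.small hn dvd_rfl) (hx.small hn (dvd_mul_right r s))
        (hx.small hn (dvd_mul_left s r))).1⟩
  intro hrs' hr' hs'
  obtain ⟨han, ha1, hk⟩ := hr'.eta_le hr2 hr0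
  obtain ⟨hbn, hb1, hl⟩ := hs'.eta_le hs2 hs0
  have hcop := (Nat.coprime_primes hr.out hs.out).2 hrs
  have hodd : Odd (r * s) := (hr.out.odd_of_ne_two hr2).mul (hs.out.odd_of_ne_two hs2)
  set k := orderOf ((q : ℕ) : ZMod r) with hk'
  set l := orderOf ((q : ℕ) : ZMod s) with hl'
  have hdr : r ∣ topTorus F (eta F r) k := by simpa using dvd_topTorus (F := F) hk odd_one
  have hds : s ∣ topTorus F (eta F s) l := by simpa using dvd_topTorus (F := F) hl odd_one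
  by_cases hsum : eta F r + eta F s ≤ n
  · exact (wit_two h2 ha1 hb1 hsum (hcop.mul_dvd_of_dvd_of_dvd (hdr.trans (Nat.dvd_lcm_left _ _))
      (hds.trans (Nat.dvd_lcm_right _ _)))).mem_odd h2 hodd
  obtain ⟨N, hN, M, hM, hdeg⟩ := hrs'
  obtain ⟨t, ht, hlt⟩ := not_adjacent_odd hN hdeg hr2 hs2 hr0 hs0 hM hk' hl'
    (isEta_eta (F := F) r) (isEta_eta (F := F) s) hle (by omega)
  have hpar : Odd l ↔ Odd k := by rw [hlt, Nat.odd_mul]; exact and_iff_left ht
  have hbt : eta F s = eta F r * t := by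
    unfold eta
    simp only [← hk', ← hl']
    by_cases h : Odd k
    · rw [if_pos h, if_pos (hpar.2 h), hlt]
    · rw [if_neg h, if_neg (fun h' => h (hpar.1 h')), hlt]
      exact Nat.mul_div_right_comm (even_iff_two_dvd.1 (Nat.not_odd_iff_even.1 h)) t
  refine (wit_one h2 hb1 hbn (k := l) (hcop.mul_dvd_of_dvd_of_dvd ?_ hds)).mem_odd h2 hodd
  have := dvd_topTorus (F := F) hk ht
  rw [← hbt] at this
  unfold topTorus at this ⊢
  by_cases h : Odd k
  · rw [if_pos h] at this; rw [if_pos (hpar.2 h)]; exact this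
  · rw [if_neg h] at this; rw [if_neg (fun h' => h (hpar.1 h'))]; exact this

/-- The prime graphs agree. -/
theorem same_graph (h2 : (2 : F) ≠ 0) (hn : 2 ≤ n) {r s : ℕ} (hr : r.Prime) (hs : s.Prime)
    (hrs : r ≠ s) : MemOmega F n (r * s) ↔ MemPSp F n (r * s) := by
  obtain ⟨p, hp⟩ := CharP.exists F
  have hpp : p.Prime := CharP.char_is_prime F p
  have : Fact p.Prime := ⟨hpp⟩
  have hp2 : p ≠ 2 := by rintro rfl; exact h2 (by exact_mod_cast CharP.cast_eq_zero F 2)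
  have h0 : ∀ {a : ℕ}, a.Prime → a ≠ p → (a : F) ≠ 0 := fun ha hap h => hap
    ((Nat.prime_dvd_prime_iff_eq hpp ha).1 ((CharP.cast_eq_zero_iff F p _).1 h)).symm
  have htwo : MemOmega F n (2 * p) ↔ MemPSp F n (2 * p) := by
    obtain ⟨k, hk⟩ := four_dvd_torus_one h2
    have h := (wit_unip (n := n) h2 p le_rfl (by omega) (k := k) (N := 2 * (2 * p)) (by
      rw [show 2 * (2 * p) = 4 * p by ring]
      refine Nat.Coprime.mul_dvd_of_dvd_of_dvd ?_ (hk.trans (Nat.dvd_lcm_left _ _))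
        (Nat.dvd_lcm_right _ _)
      exact Nat.Coprime.pow_left 2 (Nat.coprime_two_left.2 (hpp.odd_of_ne_two hp2)))).mem_two h2
    exact iff_of_true h.1 h.2
  wlog hsr : r = 2 ∨ (s ≠ 2 ∧ r ≠ p) generalizing r s
  · rw [mul_comm]
    refine this hs hr hrs.symm ?_
    by_cases hs2 : s = 2
    · exact Or.inl hs2
    · have hr2 : r ≠ 2 := fun h => hsr (Or.inl h)
      have hrp : r = p := by_contra fun h => hsr (Or.inr ⟨hs2, h⟩)
      exact Or.inr ⟨hr2, hrp ▸ hrs.symm⟩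
  by_cases hr2 : r = 2
  · subst hr2
    by_cases hsp : s = p
    · subst hsp; exact htwo
    · have := Fact.mk hs
      exact same_two h2 (by omega) hrs.symm (h0 hs hsp)
  · obtain ⟨hs2, hrp⟩ := hsr.resolve_left hr2
    have := Fact.mk hr
    by_cases hsp : s = p
    · subst hsp; exact same_char h2 (by omega) s hr2 hrp
    · have := Fact.mk hs
      exact same_odd h2 (by omega) hr2 hs2 (h0 hr hrp) (h0 hs hsp) hrs

end CfsgLib.SpecOrth
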