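import Mathlib
import Cfsg.Agent.Lib.SpecOrth.IrredTorus
import Cfsg.Agent.Lib.SpecOrth.Tools
import Cfsg.Agent.Lib.Orth.Omega
import Cfsg.Agent.Lib.NumberTheory.Zsigmondy

/-!
In `Ω_{2h+3}(q)`, `q` odd, `h ≥ 2`, no element has order `p (q^h + 1)`.
-/

set_option autoImplicit false
set_option linter.unusedSectionVars false
set_option maxHeartbeats 1600000

namespace CfsgLib.SpecOrth

open QuadraticMap CfsgLib.Orth CfsgLib.NumberTheory

variable {ι : Type} [Fintype ι] [DecidableEq ι] {F : Type*} [Field F] [Fintype F] [DecidableEq F]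
  {Q : QuadraticForm F (ι → F)}

theorem app_pow_apply (g : O Q) (j : ℕ) (v : ι → F) : app (g ^ j) v = ((app g) ^ j) v := by
  induction j generalizing v with
  | zero => simp
  | succ j ih => rw [pow_succ, pow_succ, app_mul, Module.End.mul_apply, ih]

theorem app_eq_comp (g h : O Q) : app (g * h) = app g * app h :=
  LinearMap.ext fun v => app_mul g h v

theorem app_one' : app (1 : O Q) = 1 := LinearMap.ext fun v => app_one v

theorem app_pow' (g : O Q) (j : ℕ) : app (g ^ j) = (app g) ^ j :=
  LinearMap.ext fun v => app_pow_apply g j v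

theorem det_app (g : O Q) : LinearMap.det (app g) = ((detHom Q g : Fˣ) : F) := by
  rw [app, ← Matrix.toLin'_apply', LinearMap.det_toLin']
  rfl

theorem shellPerm_pow (g : O Q) (c : F) (j : ℕ) (v : Shell Q c) :
    ((shellPerm Q c g ^ j) v).1 = app (g ^ j) v.1 := by
  rw [← map_pow]; rfl

/-- The key statement. -/
theorem no_order (hQ : Q.polarBilin.Nondegenerate) (h2 : (2 : F) ≠ 0) (p : ℕ) [hp : Fact p.Prime]
    [CharP F p] {h : ℕ} (hh : 2 ≤ h) (hd : Fintype.card ι = 2 * h + 3) (x : O Q)
    (hx : x ∈ commutator (O Q)) : orderOf x ≠ p * (Fintype.card F ^ h + 1) := by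
  intro hord
  classical
  set q := Fintype.card F with hq
  set M := q ^ h + 1 with hM
  have hq1 : 1 < q := Fintype.one_lt_card
  obtain ⟨f, -, hqp⟩ := FiniteField.card F p
  have hqodd : Odd q := by
    refine Nat.odd_iff.2 (FiniteField.odd_card_of_char_ne_two fun hch => ?_)
    have : CharP F 2 := ringChar.of_eq hch
    exact h2 CharTwo.two_eq_zero
  have hM0 : 2 < M := by
    have : 1 < q ^ h := Nat.one_lt_pow (by omega) hq1
    omega
  have hMeven : Even M := hqodd.pow.add_one
  obtain ⟨r, hr⟩ := exists_isPPD_of_two_lt hq1 (show 2 < 2 * h by omega)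
    (fun h6 => by rw [h6.1] at hqodd; exact absurd hqodd (by decide))
  have hrp : r.Prime := hr.prime
  have : Fact r.Prime := ⟨hrp⟩
  have hrM : r ∣ M := by
    have h1 := (hr.dvd_pow_sub_one_iff (by omega) (by omega) (2 * h)).2 dvd_rfl
    have h2' : q ^ (2 * h) - 1 = M * (q ^ h - 1) := by
      rw [hM, two_mul, pow_add, ← Nat.sq_sub_sq, one_pow, pow_two]
    rw [h2'] at h1
    refine (hrp.dvd_mul.1 h1).resolve_right fun h3 => ?_
    have := (hr.dvd_pow_sub_one_iff (by omega) (by omega) h).1 h3
    have := Nat.le_of_dvd (by omega) this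
    omega
  have hrq : (r : F) ≠ 0 := by
    intro h0
    have h1 : p ∣ r := (CharP.cast_eq_zero_iff F p r).1 h0
    have h3 : p = r := (Nat.prime_dvd_prime_iff_eq hp.out hrp).1 h1
    apply hr.not_dvd_base (by omega) (by omega)
    rw [← h3, hq, hqp]
    exact dvd_pow_self _ f.ne_zero
  have hcopMp : M.Coprime p := by
    rw [Nat.coprime_comm, hp.out.coprime_iff_not_dvd]
    intro h0
    have h1 : p ∣ q ^ h := dvd_pow (by rw [hq, hqp]; exact dvd_pow_self _ f.ne_zero) (by omega)
    have := (Nat.dvd_add_right h1).1 h0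
    exact hp.out.one_lt.ne' (Nat.dvd_one.1 this)
  obtain ⟨s, hs⟩ := hrM
  set y : O Q := x ^ (p * s) with hy
  have hyr : orderOf y = r := by
    rw [hy, orderOf_pow_of_dvd (mul_ne_zero hp.out.ne_zero (by rintro rfl; omega)), hord, hs]
    · rw [show p * (r * s) = r * (p * s) by ring,
        Nat.mul_div_cancel _ (Nat.mul_pos hp.out.pos (by
          rcases Nat.eq_zero_or_pos s with rfl | h
          · omega
          · exact h))]
    · rw [hord, hs]; exact ⟨r, by ring⟩
  -- the projection on the moved space
  let P : Module.End F (ι → F) := 1 - (r : F)⁻¹ • ∑ i ∈ Finset.range r, (app y) ^ i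
  have hyS : app y * ∑ i ∈ Finset.range r, (app y) ^ i = ∑ i ∈ Finset.range r, (app y) ^ i := by
    have h1 := mul_geom_sum (app y) r
    rw [← app_pow', ← hyr, pow_orderOf_eq_one, app_one', sub_self, sub_mul, one_mul, sub_eq_zero,
      hyr] at h1
    exact h1
  have hxy : Commute x y := (Commute.refl x).pow_right _
  have hxP : app x * P = P * app x := by
    have hc : Commute (app x) (app y) := by
      show app x * app y = app y * app x
      rw [← app_eq_comp, ← app_eq_comp, hxy.eq]
    exact ((Commute.one_right _).sub_right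
      ((Commute.sum_right _ _ _ fun i _ => hc.pow_right i).smul_right _)).eq
  have hyP : app y * P = P * app y := by
    exact ((Commute.one_right _).sub_right
      ((Commute.sum_right _ _ _ fun i _ => (Commute.refl _).pow_right i).smul_right _)).eq
  have hy1P : ∀ v, app y (v - P v) = v - P v := by
    intro v
    have h1 : v - P v = ((r : F)⁻¹ • ∑ i ∈ Finset.range r, (app y) ^ i) v := by simp [P]
    rw [h1, ← Module.End.mul_apply, mul_smul_comm, hyS]
  have hfixP : ∀ v, app y v = v → P v = 0 := by
    intro v hv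
    have h1 : ∀ i : ℕ, ((app y) ^ i) v = v := fun i => by
      induction i with
      | zero => rfl
      | succ i ih => rw [pow_succ, Module.End.mul_apply, hv, ih]
    simp [P, LinearMap.sum_apply, h1, ← Nat.cast_smul_eq_nsmul F, inv_smul_smul₀ hrq]
  have hPP : P * P = P := LinearMap.ext fun v => by
    have h1 := hfixP _ (hy1P v)
    rw [map_sub, sub_eq_zero] at h1
    exact h1.symm
  have hPP' : ∀ v, P (P v) = P v := fun v => LinearMap.congr_fun hPP v
  have hker : ∀ v, P v = 0 → app y v = v := fun v hv => by simpa [hv] using hy1P v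
  have horth : ∀ v u, P u = 0 → polar Q (P v) u = 0 := by
    intro v u hu
    have h1 : ∀ i : ℕ, polar Q (((app y) ^ i) v) u = polar Q v u := fun i => by
      induction i with
      | zero => rfl
      | succ i ih =>
        rw [pow_succ', Module.End.mul_apply]
        conv_lhs => rw [← hker u hu]
        rw [polar_app, ih]
    have h3 : polar Q (P v) u = Q.polarBilin.flip u (P v) := rfl
    rw [h3]
    simp [P, LinearMap.sum_apply, h1, inv_mul_cancel_left₀ hrq]
  let W : Submodule F (ι → F) := LinearMap.range P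
  let U : Submodule F (ι → F) := LinearMap.ker P
  have hW : ∀ {v}, v ∈ W → P v = v := by rintro _ ⟨w, rfl⟩; exact hPP' w
  have hU : ∀ v, v - P v ∈ U := fun v => by simp [U, hPP']
  have horth' : ∀ {w u}, w ∈ W → u ∈ U → polar Q w u = 0 := by
    rintro w u ⟨v, rfl⟩ hu; exact horth v u (LinearMap.mem_ker.1 hu)
  have hinvW : ∀ g : Module.End F (ι → F), g * P = P * g → ∀ v ∈ W, g v ∈ W := by
    rintro g hg _ ⟨v, rfl⟩
    exact ⟨g v, (LinearMap.congr_fun hg v).symm⟩
  have hinvU : ∀ g : Module.End F (ι → F), g * P = P * g → ∀ v ∈ U, g v ∈ U := by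
    intro g hg v hv
    rw [LinearMap.mem_ker] at hv ⊢
    rw [← Module.End.mul_apply, ← hg, Module.End.mul_apply, hv, map_zero]
  -- dimensions
  have hdiv : ∀ S : Submodule F (ι → F), S ≤ W → (∀ v ∈ S, app y v ∈ S) →
      2 * h ∣ Module.finrank F S := by
    intro S hSW hS
    let τ : Function.End S := fun v => (⟨app y v.1, hS _ v.2⟩ : S)
    have hτ : ∀ (j : ℕ) (v : S), ((τ ^ j : Function.End S) v).1 = app (y ^ j) v.1 := by
      intro j
      induction j with
      | zero => intro v; simp; rfl
      | succ j ih =>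
        intro v
        rw [pow_succ, pow_succ, app_mul]
        exact ih (τ v)
    have hτr : τ ^ r ^ 1 = 1 := funext fun v => Subtype.ext (by
      rw [pow_one, hτ, ← hyr, pow_orderOf_eq_one, app_one]; rfl)
    have hfix : Fintype.card (Function.fixedPoints τ) = 1 := by
      rw [Fintype.card_eq_one_iff]
      refine ⟨⟨0, Subtype.ext (map_zero _)⟩, fun v => Subtype.ext (Subtype.ext ?_)⟩
      have h1 : app y v.1.1 = v.1.1 := congrArg Subtype.val v.2
      show v.1.1 = 0
      rw [← hW (hSW v.1.2)]
      exact hfixP _ h1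
    have h1 := Equiv.Perm.card_fixedPoints_modEq (p := r) (n := 1) hτr
    rw [hfix, ← Nat.card_eq_fintype_card, Module.natCard_eq_pow_finrank (K := F),
      Nat.card_eq_fintype_card, ← hq] at h1
    refine (hr.dvd_pow_sub_one_iff (by omega) (by omega) _).1 ?_
    exact (Nat.modEq_iff_dvd' (Nat.one_le_pow _ _ (by omega))).1 h1.symm
  have hsum : Module.finrank F W + Module.finrank F U = 2 * h + 3 := by
    rw [LinearMap.finrank_range_add_finrank_ker, Module.finrank_fintype_fun_eq_card, hd]
  have hW0 : Module.finrank F W ≠ 0 := by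
    intro h0
    rw [Submodule.finrank_eq_zero] at h0
    have : y = 1 := ext_app fun v => by
      rw [app_one]
      exact hker v (LinearMap.congr_fun (LinearMap.range_eq_bot.1 h0) v)
    rw [this, orderOf_one] at hyr
    exact hrp.one_lt.ne hyr
  have hWd : Module.finrank F W = 2 * h := by
    obtain ⟨k, hk⟩ := hdiv W le_rfl (hinvW _ hyP)
    rcases k with _ | _ | k
    · omega
    · omega
    · have : 2 * h * (k + 1 + 1) ≥ 4 * h := by nlinarith
      omega
  have hUd : Module.finrank F U = 3 := by omega
  -- the torus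
  let Qw : QuadraticForm F W := Q.comp W.subtype
  let Yw : Module.End F W := (app y).restrict (hinvW _ hyP)
  have hYw : ∀ (j : ℕ) (w : W), ((Yw ^ j) w).1 = app (y ^ j) w.1 := by
    intro j
    induction j with
    | zero => intro w; simp
    | succ j ih =>
      intro w
      rw [pow_succ, Module.End.mul_apply, ih, pow_succ, app_mul]
      rfl
  have hnd : ∀ v, (∀ v', polar Q v v' = 0) → v = 0 := fun v hv => hQ.1 v hv
  have H : IrredPair Qw Yw h :=
    { two := h2
      pos := by omega
      dim := hWd
      nondeg := fun w hw => Subtype.ext (hnd w.1 fun v' => by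
        have h1 : polar Q w.1 (P v') = 0 := hw ⟨P v', v', rfl⟩
        have h3 := horth' w.2 (hU v')
        rwa [polar_sub_right, h1, sub_zero] at h3)
      iso := fun w => Q_app y w.1
      inv := LinearMap.ext fun w => Subtype.ext (by
        rw [← pow_succ', hYw, ← hq]
        obtain ⟨k, hk⟩ : orderOf y ∣ q ^ h + 1 := hyr ▸ ⟨s, hs⟩
        rw [hk, pow_mul, pow_orderOf_eq_one, one_pow, app_one]
        rfl)
      irred := fun S hS => by
        rcases eq_or_ne S ⊥ with h0 | h0
        · exact Or.inl h0
        · refine Or.inr (Submodule.eq_top_of_finrank_eq (le_antisymm (Submodule.finrank_le S) ?_))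
          have h1 : 2 * h ∣ Module.finrank F (S.map W.subtype) := by
            refine hdiv _ (Submodule.map_subtype_le W S) ?_
            rintro _ ⟨w, hw, rfl⟩
            exact ⟨_, hS w hw, rfl⟩
          rw [Submodule.finrank_map_subtype_eq] at h1
          rw [hWd]
          exact Nat.le_of_dvd (Nat.pos_of_ne_zero fun h3 => h0 (Submodule.finrank_eq_zero.1 h3)) h1 }
  let Xw : Module.End F W := (app x).restrict (hinvW _ hxP)
  have hXcent : Xw ∈ cent Yw := mem_cent.2 (LinearMap.ext fun w => Subtype.ext (by
    show app y (app x w.1) = app x (app y w.1)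
    rw [← app_mul, ← app_mul, hxy.eq]))
  have hXpow : ∀ (j : ℕ) (w : W), ((Xw ^ j) w).1 = app (x ^ j) w.1 := by
    intro j
    induction j with
    | zero => intro w; simp
    | succ j ih =>
      intro w
      rw [pow_succ, Module.End.mul_apply, ih, pow_succ, app_mul]
      rfl
  have hXM : ∀ w : W, app (x ^ M) w.1 = w.1 := fun w => by
    rw [← hXpow, hM, H.pow_eq_one hXcent (fun w => Q_app x w.1)]
    rfl
  set a : O Q := x ^ p with ha
  have haord : orderOf a = M := by
    rw [ha, orderOf_pow_of_dvd hp.out.ne_zero (hord ▸ dvd_mul_right _ _), hord,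
      Nat.mul_div_cancel_left _ hp.out.pos]
  -- the fixed part
  let Qu : QuadraticForm F U := Q.comp U.subtype
  let Xu : Module.End F U := (app x).restrict (hinvU _ hxP)
  have hXu : ∀ (j : ℕ) (w : U), ((Xu ^ j) w).1 = app (x ^ j) w.1 := by
    intro j
    induction j with
    | zero => intro w; simp
    | succ j ih =>
      intro w
      rw [pow_succ, Module.End.mul_apply, ih, pow_succ, app_mul]
      rfl
  have hxpM : x ^ (p * M) = 1 := hord ▸ pow_orderOf_eq_one x
  obtain ⟨c, hc⟩ : ∃ c : F, Xu ^ p = c • 1 := by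
    refine eq_smul_of_commute_unipotent Qu h2 (fun w hw => Subtype.ext (hnd w.1 fun v' => ?_)) hUd p
      (u := Xu ^ M) (fun w => ?_) ?_ ?_ ((Commute.refl Xu).pow_pow _ _) hcopMp ?_
    · have h1 : polar Q w.1 (v' - P v') = 0 := hw ⟨_, hU v'⟩
      have h3 : polar Q (P v') w.1 = 0 := horth' ⟨v', rfl⟩ w.2
      rw [polar_sub_right, polar_comm (f := ⇑Q) w.1 (P v'), h3, sub_zero] at h1
      exact h1
    · show Q ((Xu ^ M) w).1 = Q w.1
      rw [hXu, Q_app]
    · refine LinearMap.ext fun w => Subtype.ext ?_
      rw [← pow_mul, hXu, mul_comm, hxpM, app_one]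
      rfl
    · intro h1
      have h3 : x ^ M = 1 := ext_app fun v => by
        have hv : v = P v + (v - P v) := by abel
        rw [app_one]
        conv_lhs => rw [hv, map_add]
        have e1 := hXM ⟨P v, v, rfl⟩
        have e2 := congrArg Subtype.val (LinearMap.congr_fun h1 ⟨_, hU v⟩)
        rw [hXu] at e2
        rw [e1]
        change P v + app (x ^ M) (v - P v) = v
        rw [e2]
        show P v + (v - P v) = v
        abel
      have := Nat.le_of_dvd (by omega) (orderOf_dvd_of_pow_eq_one h3)
      rw [hord] at this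
      have := hp.out.two_le
      nlinarith
    · refine LinearMap.ext fun w => Subtype.ext ?_
      rw [← pow_mul, hXu, hxpM, app_one]
      rfl
  have haU : ∀ v, P v = 0 → app a v = c • v := fun v hv => by
    have h1 := congrArg Subtype.val (LinearMap.congr_fun hc ⟨v, hv⟩)
    rw [hXu] at h1
    exact h1
  have hc2 : c * c = 1 := by
    obtain ⟨u, hu⟩ : ∃ u ∈ U, Q u ≠ 0 := by
      by_contra hall
      push Not at hall
      have : Nontrivial U := Module.nontrivial_of_finrank_pos (R := F) (by omega)
      obtain ⟨u, hu⟩ := exists_ne (0 : U)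
      refine hu (Subtype.ext (hnd u.1 fun v' => ?_))
      have h3 : polar Q (P v') u.1 = 0 := horth' ⟨v', rfl⟩ u.2
      have h1 : polar Q u.1 (v' - P v') = 0 := by
        simp [QuadraticMap.polar, hall _ u.2, hall _ (hU v'), hall _ (U.add_mem u.2 (hU v'))]
      rw [polar_sub_right, polar_comm (f := ⇑Q) u.1 (P v'), h3, sub_zero] at h1
      exact h1
    have h1 := Q_app a u
    rw [haU u (LinearMap.mem_ker.1 hu.1), QuadraticMap.map_smul, smul_eq_mul] at h1
    exact mul_right_cancel₀ hu.2 (by rw [one_mul]; exact h1)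
  -- the part of `a` on the moved space
  have haP : app a * P = P * app a := by
    rw [ha, app_pow']
    exact (Commute.pow_left hxP p).eq
  have hT2 : (app a * P + (1 - P)) * (app a⁻¹ * P + (1 - P)) = 1 := by
    have hi : app a⁻¹ * P = P * app a⁻¹ := by
      have h1 : app a⁻¹ * (app a * P) * app a⁻¹ = app a⁻¹ * (P * app a) * app a⁻¹ := by rw [haP]
      have e1 : app a⁻¹ * app a = 1 := by rw [← app_eq_comp, inv_mul_cancel, app_one']
      have e2 : app a * app a⁻¹ = 1 := by rw [← app_eq_comp, mul_inv_cancel, app_one']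
      simp only [mul_assoc, e2, mul_one] at h1
      rw [← mul_assoc, e1, one_mul] at h1
      exact h1.symm
    have e2 : app a * app a⁻¹ = 1 := by rw [← app_eq_comp, mul_inv_cancel, app_one']
    refine LinearMap.ext fun v => ?_
    have h3 : P (app a⁻¹ (P v)) = app a⁻¹ (P v) := hW (hinvW _ hi _ ⟨v, rfl⟩)
    simp only [Module.End.mul_apply, LinearMap.add_apply, LinearMap.sub_apply, Module.End.one_apply,
      map_add, map_sub, hPP', h3, sub_self, add_zero,
      app_app_inv]
    abel
  have hT1 : (app a⁻¹ * P + (1 - P)) * (app a * P + (1 - P)) = 1 :=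
    mul_eq_one_comm.1 hT2
  have hTQ : ∀ v, Q ((app a * P + (1 - P)) v) = Q v := by
    intro v
    have hu : v - P v ∈ U := hU v
    have hw : app a (P v) ∈ W := hinvW _ haP _ ⟨v, rfl⟩
    conv_rhs => rw [show v = P v + (v - P v) by abel]
    show Q (app a (P v) + (v - P v)) = _
    rw [QuadraticMap.map_add ⇑Q, QuadraticMap.map_add ⇑Q, Q_app, horth' hw hu,
      horth' ⟨v, rfl⟩ hu]
  set a₀ : O Q := mkO (app a * P + (1 - P)) (app a⁻¹ * P + (1 - P)) hT2 hT1 hTQ with ha0
  have ha0app : ∀ v, app a₀ v = app a (P v) + (v - P v) := fun v => app_mkO _ _ _ _ _ v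
  have ha0pow : ∀ (j : ℕ) v, app (a₀ ^ j) v = app (a ^ j) (P v) + (v - P v) := by
    intro j
    induction j with
    | zero => intro v; simp
    | succ j ih =>
      intro v
      rw [pow_succ, app_mul, ha0app, ih, map_add, map_sub, hPP', sub_self, add_zero,
        hW (hinvW _ haP _ ⟨v, rfl⟩), pow_succ, app_mul]
      abel
  set o := orderOf a₀ with ho
  have hfree : ∀ (j : ℕ) (w : ι → F), w ∈ W → w ≠ 0 → app (a ^ j) w = w → a₀ ^ j = 1 := by
    intro j w hw hw0 hfx
    have h1 : Xw ^ (p * j) = 1 := H.free (pow_mem hXcent _) (w := ⟨w, hw⟩)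
      (fun h => hw0 (congrArg Subtype.val h)) (Subtype.ext (by
        rw [hXpow, pow_mul, ← ha]; exact hfx))
    refine ext_app fun v => ?_
    have h3 := congrArg Subtype.val (LinearMap.congr_fun h1 ⟨P v, v, rfl⟩)
    rw [hXpow, pow_mul, ← ha] at h3
    rw [ha0pow, app_one, h3]
    show P v + (v - P v) = v
    abel
  have hodvd : ∀ (j : ℕ) (w : ι → F), w ∈ W → w ≠ 0 → (app (a ^ j) w = w ↔ o ∣ j) := by
    intro j w hw hw0
    constructor
    · exact fun h1 => orderOf_dvd_of_pow_eq_one (hfree j w hw hw0 h1)
    · intro h1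
      have h3 := ha0pow j w
      rw [orderOf_dvd_iff_pow_eq_one.1 h1, app_one, hW hw, sub_self, add_zero] at h3
      exact h3.symm
  have haM : a ^ M = 1 := haord ▸ pow_orderOf_eq_one a
  have hoM : o ∣ M := orderOf_dvd_of_pow_eq_one (ext_app fun v => by
    rw [ha0pow, haM, app_one, app_one]; abel)
  have hcpow : ∀ (j : ℕ) v, P v = 0 → app (a ^ j) v = c ^ j • v := by
    intro j
    induction j with
    | zero => intro v _; simp
    | succ j ih =>
      intro v hv
      rw [pow_succ, app_mul, haU v hv, map_smul, ih v hv, smul_smul, pow_succ, mul_comm]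
  have hMdvd : ∀ j, o ∣ j → c ^ j = 1 → M ∣ j := by
    intro j hj hcj
    rw [← haord]
    refine orderOf_dvd_of_pow_eq_one (ext_app fun v => ?_)
    have h1 := ha0pow j v
    rw [orderOf_dvd_iff_pow_eq_one.1 hj, app_one] at h1
    rw [app_one]
    conv_lhs => rw [show v = P v + (v - P v) by abel, map_add,
      hcpow j _ (LinearMap.mem_ker.1 (hU v)), hcj, one_smul, ← h1]
  -- the characters
  have hchi : ∀ d : F, d ≠ 0 → o = M → chi Q d a₀ = -1 := by
    intro d hd0 hoM'
    let σ := shellPerm Q d a₀
    have hσ : ∀ (j : ℕ) (v : Shell Q d), (σ ^ j) v = v ↔ (P v.1 = 0 ∨ o ∣ j) := by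
      intro j v
      rw [Subtype.ext_iff, shellPerm_pow, ha0pow]
      rcases eq_or_ne (P v.1) 0 with h0 | h0
      · simp [h0]
      · rw [← hodvd j _ ⟨v.1, rfl⟩ h0]
        constructor
        · intro h1
          refine Or.inr ?_
          rwa [add_sub, sub_eq_iff_eq_add, add_comm (app (a ^ j) (P v.1)), add_right_inj] at h1
        · intro h1
          rw [h1.resolve_left h0]; abel
    have ho1 : ¬ o ∣ 1 := fun h1 => by have := Nat.le_of_dvd one_pos h1; omega
    have hsupp : ∀ v, σ v ≠ v ↔ P v.1 ≠ 0 := fun v => by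
      rw [ne_eq, ← pow_one σ, hσ]; simp [ho1]
    obtain ⟨k, hk, hsgn⟩ := sign_of_uniform (σ := σ) (o := o) (fun v hv j => by
      rw [hσ]; simp [(hsupp v).1 hv])
    have hkodd : Odd k := by
      -- the points of one value in the moved space
      let A : F → ℕ := fun e => Nat.card {w : W // w ≠ 0 ∧ Qw w = e}
      have hAdvd : ∀ e, M ∣ A e := by
        intro e
        let τ : Equiv.Perm {w : W // w ≠ 0 ∧ Qw w = e} :=
          Equiv.ofBijective (fun w => ⟨⟨app a w.1.1, hinvW _ haP _ w.1.2⟩,
            fun h => w.2.1 (Subtype.ext (app_injective a (by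
              simpa using congrArg Subtype.val h))),
            (Q_app a w.1.1).trans w.2.2⟩)
            (Finite.injective_iff_bijective.1 fun u v huv => Subtype.ext (Subtype.ext
              (app_injective a (congrArg (fun t => t.1.1) huv))))
        have hτ : ∀ (j : ℕ) w, ((τ ^ j) w).1.1 = app (a ^ j) w.1.1 := by
          intro j
          induction j with
          | zero => intro w; simp
          | succ j ih =>
            intro w
            rw [pow_succ, Equiv.Perm.mul_apply, ih, pow_succ, app_mul]
            rfl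
        have h1 := dvd_card_of_free (σ := τ) (o := M) (by omega) (fun w j => by
          rw [Subtype.ext_iff, Subtype.ext_iff, hτ, hodvd j _ w.1.2 (fun h => w.2.1 (Subtype.ext h)),
            hoM'])
        rwa [← Nat.card_eq_fintype_card] at h1
      have hsplit : σ.support.card = ∑ u : U, A (d - Qu u) := by
        rw [← Nat.card_sigma, Nat.card_eq_fintype_card, ← Fintype.card_coe]
        refine Fintype.card_congr ?_
        exact
          { toFun := fun v => ⟨⟨_, hU v.1.1⟩, ⟨P v.1.1, v.1.1, rfl⟩,
              fun h => (hsupp v.1).1 (Equiv.Perm.mem_support.1 v.2) (congrArg Subtype.val h), by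
              show Q (P v.1.1) = d - Q (v.1.1 - P v.1.1)
              have h1 : Q (P v.1.1 + (v.1.1 - P v.1.1)) = d := by rw [add_sub_cancel]; exact v.1.2
              rw [QuadraticMap.map_add ⇑Q, horth' ⟨v.1.1, rfl⟩ (hU v.1.1), add_zero] at h1
              linear_combination h1⟩
            invFun := fun s => ⟨⟨s.2.1.1 + s.1.1, by
              have h1 : Q s.2.1.1 = d - Q s.1.1 := s.2.2.2
              rw [QuadraticMap.map_add ⇑Q, horth' s.2.1.2 s.1.2, h1]; ring⟩, by
              rw [Equiv.Perm.mem_support, hsupp]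
              show P (s.2.1.1 + s.1.1) ≠ 0
              rw [map_add, hW s.2.1.2, LinearMap.mem_ker.1 s.1.2, add_zero]
              exact fun h => s.2.2.1 (Subtype.ext h)⟩
            left_inv := fun v => Subtype.ext (Subtype.ext (by simp))
            right_inv := fun s => by
              obtain ⟨⟨u, hu⟩, ⟨w, hw⟩, hw'⟩ := s
              have e1 : P (w + u) = w := by
                rw [map_add, hW hw, LinearMap.mem_ker.1 hu, add_zero]
              refine Sigma.subtype_ext (Subtype.ext ?_) (Subtype.ext ?_)
              · show w + u - P (w + u) = u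
                rw [e1]; abel
              · exact e1 }
      choose b hb using hAdvd
      have hkb : k = ∑ u : U, b (d - Qu u) := by
        refine Nat.eq_of_mul_eq_mul_left (show 0 < M by omega) ?_
        rw [Finset.mul_sum, ← Finset.sum_congr rfl (fun u _ => hb (d - Qu u)), ← hsplit, hk, hoM']
      have heven : ((∑ u ∈ (Finset.univ : Finset U).erase 0, b (d - Qu u) : ℕ) : ZMod 2) = 0 := by
        rw [Nat.cast_sum]
        refine Finset.sum_involution (fun u _ => -u) (fun u _ => ?_) (fun u hu _ => ?_)
          (fun u hu => ?_) (fun u _ => neg_neg u)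
        · rw [QuadraticMap.map_neg]; exact CharTwo.add_self_eq_zero _
        · intro h1
          refine (Finset.mem_erase.1 hu).1 ?_
          have h3 : (2 : F) • u = 0 := by rw [two_smul]; nth_rewrite 1 [← h1]; exact neg_add_cancel u
          exact (smul_eq_zero.1 h3).resolve_left h2
        · simpa using hu
      have hA0 : b d = q ^ (h - 1) := by
        refine Nat.eq_of_mul_eq_mul_left (show 0 < M by omega) ?_
        rw [← hb d, hM, hq, ← H.card_value hd0]
        exact Nat.card_congr (Equiv.subtypeEquivRight fun w => ⟨fun h => h.2, fun h =>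
          ⟨fun h0 => hd0 (by rw [← h, h0, QuadraticMap.map_zero]), h⟩⟩)
      rw [← ZMod.natCast_eq_one_iff_odd, hkb,
        ← Finset.add_sum_erase _ _ (Finset.mem_univ (0 : U)), Nat.cast_add, heven, add_zero,
        QuadraticMap.map_zero, sub_zero, hA0, ZMod.natCast_eq_one_iff_odd]
      exact hqodd.pow
    change Equiv.Perm.sign σ = -1
    rw [hsgn, hoM']
    exact (Even.add_odd (hMeven.mul_right k) hkodd).neg_one_pow
  obtain ⟨d, hd'⟩ := FiniteField.exists_nonsquare (F := F) (fun hch => by
    have : CharP F 2 := ringChar.of_eq hch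
    exact h2 CharTwo.two_eq_zero)
  have hd0 := ne_zero_of_not_isSquare h2 hd'
  have hdet0 : detHom Q a₀ = 1 := by
    rw [detHom_eq hQ h2 hd']
    suffices chi Q 1 a₀ * chi Q d a₀ = 1 by rw [this, map_one]
    by_cases hoM' : o = M
    · rw [hchi 1 one_ne_zero hoM', hchi d hd0 hoM']; rfl
    · have hood : Odd o := by
        by_contra hev
        rw [Nat.not_odd_iff_even] at hev
        obtain ⟨k, hk⟩ := hev
        refine hoM' (Nat.dvd_antisymm hoM (hMdvd o dvd_rfl ?_))
        rw [hk, ← two_mul, pow_mul, pow_two, hc2, one_pow]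
      have h1 : ∀ e, chi Q e a₀ = 1 := fun e => by
        rcases Int.units_eq_one_or (chi Q e a₀) with h | h
        · exact h
        · exfalso
          have h3 : chi Q e a₀ ^ o = 1 := by rw [← map_pow, ho, pow_orderOf_eq_one, map_one]
          rw [h, hood.neg_one_pow] at h3
          exact absurd h3 (by decide)
      rw [h1, h1, one_mul]
  have hxdet : detHom Q x = 1 := MonoidHom.mem_ker.1 (Abelianization.commutator_subset_ker _ hx)
  have hdec : app a = app a₀ * (P + c • (1 - P)) := LinearMap.ext fun v => by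
    simp only [Module.End.mul_apply, LinearMap.add_apply, LinearMap.smul_apply, LinearMap.sub_apply,
      Module.End.one_apply]
    have h0 : P (v - P v) = 0 := LinearMap.mem_ker.1 (hU v)
    rw [ha0app, map_add, map_smul, hPP', h0, smul_zero, add_zero, add_sub_cancel_left,
      ← haU _ h0, ← map_add, add_sub_cancel]
  have hc3 : c ^ 3 = 1 := by
    have h1 := congrArg LinearMap.det hdec
    rw [map_mul, det_app, det_app, hdet0, det_add_smul_compl hPP, ha, map_pow, hxdet, one_pow,
      Units.val_one, one_mul] at h1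
    rw [← hUd]
    exact h1.symm
  have hc1 : c = 1 := by
    rw [pow_succ, pow_two, hc2, one_mul] at hc3
    exact hc3
  have hoM' : o = M := Nat.dvd_antisymm hoM (hMdvd o dvd_rfl (by rw [hc1, one_pow]))
  have haa : a = a₀ := ext_app fun v => by
    rw [ha0app]
    conv_lhs => rw [show v = P v + (v - P v) by abel, map_add,
      haU _ (LinearMap.mem_ker.1 (hU v)), hc1, one_smul]
  have hker' : a ∈ (chiPair Q d).ker := by
    rw [← commutator_eq hQ h2 hd', ha]
    exact pow_mem hx p
  rw [MonoidHom.mem_ker, chiPair, MonoidHom.prod_apply, Prod.mk_eq_one, haa,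
    hchi 1 one_ne_zero hoM'] at hker'
  exact absurd hker'.1 (by decide)

end CfsgLib.SpecOrth
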